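import Mathlib

/-!
A perfect group whose orbits on a module are those of a subgroup permuting `n` blocks as a cycle does not exist.
-/

set_option autoImplicit false
set_option linter.unusedSectionVars false

namespace CfsgLib.OrbitSolvable

variable {A V : Type*} [Group A] [AddCommGroup V] {q : ℕ} [Module (ZMod q) V]

theorem hom_trivial_of_perfect (hperf : commutator A = ⊤) {B : Type*} [CommGroup B] (φ : A →* B) (a : A) :
    φ a = 1 := by
  have h : commutator A ≤ φ.ker := by
    rw [commutator_def, Subgroup.commutator_le]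
    intro x _ y _
    rw [MonoidHom.mem_ker, map_commutatorElement, commutatorElement_eq_one_iff_mul_comm]
    exact mul_comm _ _
  rw [hperf] at h
  exact h (Subgroup.mem_top a)

theorem no_blocks (ρ : A →* (V ≃ₗ[ZMod q] V)) (hperf : commutator A = ⊤) (P : Subgroup A)
    (horb : ∀ (a : A) (v : V), ∃ x ∈ P, ρ a v = ρ x v)
    {p : ℕ} [hp : Fact p.Prime] (W : ZMod p → Submodule (ZMod q) V) (hind : iSupIndep W) (hne : ∀ i, W i ≠ ⊥)
    (hsh : ∀ x ∈ P, ∃ c : ZMod p, ∀ i, ∀ u ∈ W i, ρ x u ∈ W (i + c))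
    (g₀ : A) (hg₀ : ∀ i, ∀ u ∈ W i, ρ g₀ u ∈ W (i + 1)) : False := by
  classical
  have hmul : ∀ (a b : A) (v : V), ρ (a * b) v = ρ a (ρ b v) := fun a b v => by rw [map_mul]; rfl
  -- the blocks meet trivially
  have hmeet : ∀ {i j : ZMod p} {u : V}, u ∈ W i → u ∈ W j → i ≠ j → u = 0 := by
    intro i j u hi hj hij
    exact (Submodule.disjoint_def.1 (hind.pairwiseDisjoint hij)) u hi hj
  -- a sum of two components lies in a block only trivially
  have hsum2 : ∀ {i j l : ZMod p} {u v : V}, u ∈ W i → v ∈ W j → u + v ∈ W l → i ≠ j → u = 0 ∨ v = 0 := by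
    intro i j l u v hu hv huv hij
    by_cases hil : l = i
    · subst hil
      right
      have : v ∈ W l := by simpa using (W l).sub_mem huv hu
      exact hmeet this hv hij
    · left
      have h1 : u ∈ ⨆ (k) (_ : k ≠ i), W k := by
        have e : u = (u + v) + -v := by simp
        rw [e]
        exact add_mem (Submodule.mem_iSup_of_mem l (Submodule.mem_iSup_of_mem hil huv))
          (Submodule.mem_iSup_of_mem j (Submodule.mem_iSup_of_mem (Ne.symm hij) (neg_mem hv)))
      exact Submodule.disjoint_def.1 (hind i) u hu h1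
  have hmove : ∀ (a : A) (i : ZMod p) (u : V), u ∈ W i → ∃ j, ρ a u ∈ W j := fun a i u hu => by
    obtain ⟨x, hx, he⟩ := horb a u
    obtain ⟨c, hc⟩ := hsh x hx
    exact ⟨i + c, he ▸ hc i u hu⟩
  have hblock : ∀ (a : A) (i : ZMod p), ∃ j, ∀ u ∈ W i, ρ a u ∈ W j := by
    intro a i
    obtain ⟨w, hw, hw0⟩ := Submodule.exists_mem_ne_zero_of_ne_bot (hne i)
    obtain ⟨j, hj⟩ := hmove a i w hw
    refine ⟨j, fun u hu => ?_⟩
    obtain ⟨k, hk⟩ := hmove a i u hu
    by_cases hjk : k = j
    · exact hjk ▸ hk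
    obtain ⟨l, hl⟩ := hmove a i (w + u) (add_mem hw hu)
    rw [map_add] at hl
    rcases hsum2 hj hk hl (Ne.symm hjk) with h | h
    · exact absurd ((LinearEquiv.map_eq_zero_iff _).1 h) hw0
    · rw [h]; exact zero_mem _
  choose π hπ using hblock
  have huniq : ∀ (a : A) (i j : ZMod p) (u : V), u ∈ W i → u ≠ 0 → ρ a u ∈ W j → π a i = j := by
    intro a i j u hu hu0 hj
    by_contra h
    exact hu0 ((LinearEquiv.map_eq_zero_iff _).1 (hmeet (hπ a i u hu) hj h))
  have hπmul : ∀ a b i, π (a * b) i = π a (π b i) := by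
    intro a b i
    obtain ⟨w, hw, hw0⟩ := Submodule.exists_mem_ne_zero_of_ne_bot (hne i)
    exact huniq _ _ _ w hw hw0 (by rw [hmul]; exact hπ a _ _ (hπ b i w hw))
  have hπ1 : ∀ i, π 1 i = i := by
    intro i
    obtain ⟨w, hw, hw0⟩ := Submodule.exists_mem_ne_zero_of_ne_bot (hne i)
    exact huniq _ _ _ w hw hw0 (by rw [map_one]; exact hw)
  have hπinj : ∀ a, Function.Injective (π a) := fun a i j h => by
    have := congrArg (π a⁻¹) h
    rwa [← hπmul, ← hπmul, inv_mul_cancel, hπ1, hπ1] at this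
  -- neighbours go to neighbours
  have hnext : ∀ a i, π a (i + 1) = π a i + 1 ∨ π a (i + 1) = π a i - 1 := by
    intro a i
    obtain ⟨w, hw, hw0⟩ := Submodule.exists_mem_ne_zero_of_ne_bot (hne i)
    obtain ⟨w', hw', hw0'⟩ := Submodule.exists_mem_ne_zero_of_ne_bot (hne (i + 1))
    obtain ⟨x, hx, he⟩ := horb a (w + w')
    obtain ⟨c, hc⟩ := hsh x hx
    have h1 := hπ a i w hw
    have h2 := hπ a (i + 1) w' hw'
    have h3 := hc i w hw
    have h4 := hc (i + 1) w' hw'
    have hne0 : ∀ (b : A) {v : V}, v ≠ 0 → ρ b v ≠ 0 := fun b v hv h => hv ((LinearEquiv.map_eq_zero_iff _).1 h)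
    have hij : π a i ≠ π a (i + 1) := fun h => by
      have := hπinj a h
      simp at this
    rw [map_add, map_add] at he
    -- compare the supports
    have key : ∀ {s t l m : ZMod p} {u v u' v' : V}, u ∈ W s → v ∈ W t → u' ∈ W l → v' ∈ W m → u ≠ 0 →
        u + v = u' + v' → s ≠ t → s = l ∨ s = m := by
      intro s t l m u v u' v' hu hv hu' hv' hu0 e hst
      by_contra hcon
      push Not at hcon
      have h1 : u ∈ ⨆ (k) (_ : k ≠ s), W k := by
        have e1 : u = u' + v' - v := by rw [← e]; simp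
        rw [e1]
        exact sub_mem (add_mem (Submodule.mem_iSup_of_mem l (Submodule.mem_iSup_of_mem (Ne.symm hcon.1) hu'))
          (Submodule.mem_iSup_of_mem m (Submodule.mem_iSup_of_mem (Ne.symm hcon.2) hv')))
          (Submodule.mem_iSup_of_mem t (Submodule.mem_iSup_of_mem (Ne.symm hst) hv))
      exact hu0 (Submodule.disjoint_def.1 (hind s) u hu h1)
    rcases key h1 h2 h3 h4 (hne0 a hw0) he hij with h | h <;>
      rcases key h2 h1 h3 h4 (hne0 a hw0') (by rw [add_comm]; exact he) hij.symm with h' | h'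
    · exact absurd (h.trans h'.symm) hij
    · left; rw [h, h']; ring
    · right; rw [h, h']; ring
    · exact absurd (h.trans h'.symm) hij
  -- the maps are affine
  set d : A → ZMod p := fun a => π a 1 - π a 0 with hd
  have hd1 : ∀ a, d a = 1 ∨ d a = -1 := fun a => by
    have := hnext a 0
    rw [zero_add] at this
    rcases this with h | h
    · left; rw [hd]; show π a 1 - π a 0 = 1; rw [h]; ring
    · right; rw [hd]; show π a 1 - π a 0 = -1; rw [h]; ring
  have haff : ∀ a, ∀ n : ℕ, π a (n : ZMod p) = π a 0 + (n : ZMod p) * d a ∧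
      π a ((n : ZMod p) + 1) = π a 0 + ((n : ZMod p) + 1) * d a := by
    intro a n
    induction n with
    | zero => simp [hd]
    | succ n ih =>
      push_cast
      refine ⟨ih.2, ?_⟩
      set x : ZMod p := (n : ZMod p) with hx
      by_cases h2 : (2 : ZMod p) = 0
      · rw [show x + 1 + 1 = x by linear_combination h2, ih.1]
      have hne' : π a (x + 1 + 1) ≠ π a x := fun h => by
        have := hπinj a h
        exact h2 (by linear_combination this)
      rcases hd1 a with h | h <;> rcases hnext a (x + 1) with h' | h'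
      · rw [h', ih.2, h]; ring
      · exact absurd (by rw [h', ih.2, ih.1, h]; ring) hne'
      · exact absurd (by rw [h', ih.2, ih.1, h]; ring) hne'
      · rw [h', ih.2, h]; ring
  have haff' : ∀ a i, π a i = π a 0 + i * d a := fun a i => by
    have := (haff a i.val).1
    rwa [ZMod.natCast_zmod_val] at this
  have hdmul : ∀ a b, d (a * b) = d a * d b := by
    intro a b
    show π (a * b) 1 - π (a * b) 0 = _
    rw [hπmul, hπmul, haff' a (π b 1), haff' a (π b 0)]
    simp only [hd]; ring
  have hd0 : ∀ a, d a ≠ 0 := fun a h => by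
    rcases hd1 a with h' | h'
    · exact one_ne_zero (h'.symm.trans h)
    · exact one_ne_zero (neg_eq_zero.1 (h'.symm.trans h))
  let φ : A →* (ZMod p)ˣ := MonoidHom.mk' (fun a => Units.mk0 (d a) (hd0 a)) fun a b => Units.ext (hdmul a b)
  have hdone : ∀ a, d a = 1 := fun a => congrArg Units.val (hom_trivial_of_perfect hperf φ a)
  let ψ : A →* Multiplicative (ZMod p) := MonoidHom.mk' (fun a => Multiplicative.ofAdd (π a 0)) fun a b => by
    rw [← ofAdd_add, hπmul, haff' a (π b 0), hdone, mul_one]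
  have h0 : π g₀ 0 = 0 := ofAdd_eq_one.1 (hom_trivial_of_perfect hperf ψ g₀)
  obtain ⟨w, hw, hw0⟩ := Submodule.exists_mem_ne_zero_of_ne_bot (hne 0)
  have := huniq g₀ 0 (0 + 1) w hw hw0 (hg₀ 0 w hw)
  rw [h0, zero_add] at this
  exact zero_ne_one this

end CfsgLib.OrbitSolvable
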