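import Mathlib
import Cfsg.Agent.Transfer.AbelianSylow
import Cfsg.Agent.S3972
import Cfsg.Agent.S0675

/-!
No simple group has prime power orbits on a module with cyclic Sylow subgroup acting irreducibly.
-/

set_option autoImplicit false
set_option linter.style.haveILetI false
set_option linter.unusedSectionVars false

namespace CfsgLib.OrbitSolvable

variable {A V : Type*} [Group A] [Finite A] [AddCommGroup V] [Finite V] {q : ℕ} [hq : Fact q.Prime]
  [Module (ZMod q) V]

theorem no_cyclic {p : ℕ} [hp : Fact p.Prime] (hp2 : p ≠ 2) (ρ : A →* (V ≃ₗ[ZMod q] V)) (hρ : Function.Injective ρ)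
    (hqA : ¬ q ∣ Nat.card A) (hsimple : ∀ N : Subgroup A, N.Normal → N = ⊥ ∨ N = ⊤) (hns : ¬ Group.IsSolvable A)
    (P : Sylow p A) (hP : IsCyclic (P : Subgroup A)) (hP1 : (P : Subgroup A) ≠ ⊥)
    (horb : ∀ (a : A) (v : V), ∃ x ∈ (P : Subgroup A), ρ a v = ρ x v)
    (hirr : ∀ W : Submodule (ZMod q) V, (∀ x ∈ (P : Subgroup A), ∀ w ∈ W, ρ x w ∈ W) → W = ⊥ ∨ W = ⊤)
    (v : V) (hv : v ≠ 0) : False := by
  classical
  have hmul : ∀ (a b : A) (w : V), ρ (a * b) w = ρ a (ρ b w) := fun a b w => by rw [map_mul]; rfl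
  have hone : ∀ w : V, ρ 1 w = w := fun w => by rw [map_one]; rfl
  obtain ⟨⟨g, hgP⟩, hgen⟩ := IsCyclic.exists_generator (α := (P : Subgroup A))
  have hpow : ∀ x ∈ (P : Subgroup A), ∃ k : ℕ, x = g ^ k := fun x hx => by
    obtain ⟨k, hk⟩ := (isOfFinOrder_of_finite _).mem_powers_iff_mem_zpowers.2 (hgen ⟨x, hx⟩)
    exact ⟨k, by simpa using (congrArg Subtype.val hk).symm⟩
  obtain ⟨c, hc⟩ := IsPGroup.iff_card.1 P.isPGroup'
  have hgo : orderOf g = p ^ c := by
    rw [← hc]
    exact le_antisymm (Nat.le_of_dvd Nat.card_pos (Subgroup.orderOf_dvd_natCard _ hgP)) (by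
      rw [← Nat.card_zpowers]
      refine Subgroup.card_le_of_le fun x hx => ?_
      obtain ⟨k, rfl⟩ := hpow x hx
      exact Subgroup.npow_mem_zpowers g k)
  have hc0 : c ≠ 0 := by
    rintro rfl
    exact hP1 (Subgroup.card_eq_one.1 (by rw [hc, pow_zero]))
  -- nontrivial elements of `P` fix nothing
  have hfree : ∀ x ∈ (P : Subgroup A), ∀ w : V, w ≠ 0 → ρ x w = w → x = 1 := by
    intro x hx w hw hxw
    obtain ⟨i, rfl⟩ := hpow x hx
    have hinv : ∀ y ∈ (P : Subgroup A), ∀ u ∈ LinearMap.ker ((ρ (g ^ i) : V →ₗ[ZMod q] V) - LinearMap.id),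
        ρ y u ∈ LinearMap.ker ((ρ (g ^ i) : V →ₗ[ZMod q] V) - LinearMap.id) := by
      intro y hy u hu
      obtain ⟨j, rfl⟩ := hpow y hy
      simp only [LinearMap.mem_ker, LinearMap.sub_apply, LinearEquiv.coe_coe, LinearMap.id_apply, sub_eq_zero] at hu ⊢
      rw [← hmul, ← pow_add, add_comm, pow_add, hmul, hu]
    rcases hirr _ hinv with h | h
    · exact absurd ((Submodule.mem_bot (ZMod q)).1 (h ▸ (show ρ (g ^ i) w - w = 0 by rw [hxw, sub_self] : w ∈ LinearMap.ker ((ρ (g ^ i) : V →ₗ[ZMod q] V) - LinearMap.id)))) hw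
    · apply hρ
      rw [map_one]
      refine LinearEquiv.ext fun u => ?_
      have := LinearMap.congr_fun (LinearMap.ker_eq_top.1 h) u
      simpa [sub_eq_zero] using this
  -- the action on the orbit
  letI : MulAction A V :=
    { smul := fun a w => ρ a w
      one_smul := hone
      mul_smul := hmul }
  let Ω := ↥(MulAction.orbit A v)
  haveI : Fintype Ω := Fintype.ofFinite Ω
  let e : ↥(P : Subgroup A) → Ω := fun x => ⟨ρ x.1 v, x.1, rfl⟩
  have he : Function.Bijective e := by
    refine ⟨fun x y h => ?_, fun w => ?_⟩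
    · have h1 : ρ (x : A) v = ρ (y : A) v := congrArg Subtype.val h
      have h2 : ρ ((y : A)⁻¹ * x) v = v := by rw [hmul, h1, ← hmul, inv_mul_cancel, hone]
      exact Subtype.ext (inv_mul_eq_one.1 (hfree _ (mul_mem (inv_mem y.2) x.2) v hv h2)).symm
    · obtain ⟨a, ha⟩ := w.2
      obtain ⟨x, hx, hx'⟩ := horb a v
      exact ⟨⟨x, hx⟩, Subtype.ext (hx'.symm.trans ha)⟩
  have hΩ : Fintype.card Ω = p ^ c := by
    rw [← Nat.card_eq_fintype_card, ← Nat.card_congr (Equiv.ofBijective e he), hc]
  set φ : A →* Equiv.Perm Ω := MulAction.toPermHom A Ω with hφ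
  have hφinj : Function.Injective φ := by
    rw [← MonoidHom.ker_eq_bot_iff]
    rcases hsimple φ.ker inferInstance with h | h
    · exact h
    · exfalso
      have h1 : ρ g v = v := by
        have h2 : g ∈ φ.ker := h ▸ Subgroup.mem_top g
        exact congrArg Subtype.val (Equiv.Perm.congr_fun h2 ⟨v, MulAction.mem_orbit_self v⟩)
      have h3 := hfree g hgP v hv h1
      rw [h3, orderOf_one] at hgo
      exact (Nat.one_lt_pow hc0 hp.out.one_lt).ne hgo
  set G := φ.range with hG
  let eA : A ≃* G := MonoidHom.ofInjective hφinj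
  haveI htr : MulAction.IsPretransitive G Ω := by
    refine ⟨fun x y => ?_⟩
    obtain ⟨a, ha⟩ := MulAction.exists_smul_eq A x y
    exact ⟨eA a, ha⟩
  by_cases h2 : MulAction.IsMultiplyPretransitive G Ω 2
  · have h2' : ∀ a b c' d : Ω, a ≠ b → c' ≠ d → ∃ x : A, x • a = c' ∧ x • b = d := by
      intro a b c' d hab hcd
      obtain ⟨s, hs1, hs2⟩ := MulAction.is_two_pretransitive_iff.1 h2 hab hcd
      obtain ⟨x, rfl⟩ := eA.surjective s
      exact ⟨x, hs1, hs2⟩
    let a : Ω := ⟨v, MulAction.mem_orbit_self v⟩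
    let b : Ω := ⟨ρ g v, g, rfl⟩
    have hab : a ≠ b := fun h => by
      have h3 := hfree g hgP v hv (congrArg Subtype.val h).symm
      rw [h3, orderOf_one] at hgo
      exact (Nat.one_lt_pow hc0 hp.out.one_lt).ne hgo
    have hodd : Odd (p ^ c) := (hp.out.odd_of_ne_two hp2).pow
    by_cases hq2 : q = 2
    · subst hq2
      set B := MulAction.stabilizer A a with hB
      have hab' : b ∈ ({a} : Set Ω)ᶜ := fun h => hab h.symm
      have horbB : MulAction.orbit B b = ({a} : Set Ω)ᶜ := by
        ext w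
        constructor
        · rintro ⟨⟨y, hy⟩, rfl⟩ h
          have h3 : y • b = y • a := (show y • b = a from h).trans (show y • a = a from hy).symm
          exact hab (MulAction.injective y h3).symm
        · intro hw
          obtain ⟨y, hy1, hy2⟩ := h2' a b a w hab (fun h => hw h.symm)
          exact ⟨⟨y, hy1⟩, hy2⟩
      have hn : Nat.card (MulAction.orbit B b) = p ^ c - 1 := by
        rw [Nat.card_coe_set_eq, horbB, Set.ncard_compl, Set.ncard_singleton, Nat.card_eq_fintype_card, hΩ]
      have hdvd : p ^ c - 1 ∣ Nat.card A := by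
        rw [← hn, Nat.card_coe_set_eq, ← MulAction.index_stabilizer]
        exact (Subgroup.index_dvd_card _).trans (Subgroup.card_subgroup_dvd_card B)
      refine hqA (dvd_trans ?_ hdvd)
      obtain ⟨j, hj⟩ := hodd
      exact ⟨j, by omega⟩
    · set u : V := v - ρ g v with hu
      have hu0 : u ≠ 0 := fun h => hab (Subtype.ext (sub_eq_zero.1 h))
      have hswap : ∀ w ∈ MulAction.orbit A u, -w ∈ MulAction.orbit A u := by
        rintro w ⟨y, rfl⟩
        obtain ⟨x, hx1, hx2⟩ := h2' a b b a hab hab.symm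
        have e1 : ρ x v = ρ g v := congrArg Subtype.val hx1
        have e2 : ρ x (ρ g v) = v := congrArg Subtype.val hx2
        refine ⟨y * x, ?_⟩
        show ρ (y * x) u = -ρ y u
        rw [hmul, hu, map_sub (ρ x), e1, e2, ← map_neg, neg_sub]
      have hcardu : Nat.card (MulAction.orbit A u) = p ^ c := by
        let e' : ↥(P : Subgroup A) → MulAction.orbit A u := fun x => ⟨ρ x.1 u, x.1, rfl⟩
        have he' : Function.Bijective e' := by
          refine ⟨fun x y h => ?_, fun w => ?_⟩
          · have h1 : ρ (x : A) u = ρ (y : A) u := congrArg Subtype.val h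
            have h2 : ρ ((y : A)⁻¹ * x) u = u := by rw [hmul, h1, ← hmul, inv_mul_cancel, hone]
            exact Subtype.ext (inv_mul_eq_one.1 (hfree _ (mul_mem (inv_mem y.2) x.2) u hu0 h2)).symm
          · obtain ⟨a', ha'⟩ := w.2
            obtain ⟨x, hx, hx'⟩ := horb a' u
            exact ⟨⟨x, hx⟩, Subtype.ext (hx'.symm.trans ha')⟩
        rw [← Nat.card_congr (Equiv.ofBijective e' he'), hc]
      haveI : Fintype ↥(MulAction.orbit A u) := Fintype.ofFinite _
      let τ : Equiv.Perm (MulAction.orbit A u) :=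
        { toFun := fun w => ⟨-w.1, hswap _ w.2⟩
          invFun := fun w => ⟨-w.1, hswap _ w.2⟩
          left_inv := fun w => Subtype.ext (neg_neg w.1)
          right_inv := fun w => Subtype.ext (neg_neg w.1) }
      have hτ : τ ^ 2 ^ 1 = 1 := by
        ext w
        simp [τ, pow_two]
      have hodd' : ¬ 2 ∣ Fintype.card (MulAction.orbit A u) := by
        rw [← Nat.card_eq_fintype_card, hcardu]
        obtain ⟨j, hj⟩ := hodd
        omega
      obtain ⟨w, hw⟩ := Equiv.Perm.exists_fixed_point_of_prime (p := 2) hodd' hτ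
      have h3 : -w.1 = w.1 := congrArg Subtype.val hw
      have h4 : (2 : ZMod q) • w.1 = 0 := by
        rw [two_smul]; nth_rewrite 1 [← h3]; exact neg_add_cancel _
      have h5 : (2 : ZMod q) ≠ 0 := by
        intro h
        have : (q : ℕ) ∣ 2 := (ZMod.natCast_eq_zero_iff _ _).1 (by exact_mod_cast h)
        exact hq2 ((Nat.prime_dvd_prime_iff_eq hq.out Nat.prime_two).1 this)
      have h6 := (smul_eq_zero.1 h4).resolve_left h5
      obtain ⟨y, hy⟩ := w.2
      exact hu0 ((LinearEquiv.map_eq_zero_iff (ρ y)).1 (hy.trans h6))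
  · by_cases hc1 : c = 1
    · subst hc1
      rw [pow_one] at hΩ
      rcases Cfsg.Agent.S0675.result (hΩ.symm ▸ hp.out) G with h | h
      · exact hns (Group.isSolvable_of_surjective (f := eA.symm.toMonoidHom) eA.symm.surjective)
      · exact h2 h
    · have hgo' : orderOf (eA g) = p ^ c := by rw [← hgo]; exact MulEquiv.orderOf_eq eA g
      obtain ⟨-, h⟩ := Cfsg.Agent.S3972.result p c hp.out (by omega) hΩ G htr h2 (eA g) hgo'
      set N := Subgroup.normalClosure ({eA g ^ p ^ (c - 1)} : Set G) with hN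
      haveI : N.Normal := Subgroup.normalClosure_normal
      have htop : N = ⊤ := by
        rcases hsimple (N.comap eA.toMonoidHom) inferInstance with h1 | h1
        · exfalso
          have hlt : p ^ (c - 1) < p ^ c := Nat.pow_lt_pow_right hp.out.one_lt (by omega)
          have h3 : g ^ p ^ (c - 1) ∈ N.comap eA.toMonoidHom := by
            rw [Subgroup.mem_comap]
            show eA (g ^ p ^ (c - 1)) ∈ N
            rw [map_pow]
            exact Subgroup.subset_normalClosure rfl
          rw [h1, Subgroup.mem_bot] at h3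
          exact pow_ne_one_of_lt_orderOf (pow_ne_zero _ hp.out.ne_zero) (hgo ▸ hlt) h3
        · rw [← Subgroup.map_comap_eq_self_of_surjective eA.surjective N]
          show (N.comap eA.toMonoidHom).map eA.toMonoidHom = ⊤
          rw [h1]
          exact Subgroup.map_top_of_surjective _ eA.surjective
      refine h ⟨fun x y => ?_⟩
      obtain ⟨s, hs⟩ := MulAction.exists_smul_eq G x y
      exact ⟨⟨s, by rw [htop]; exact Subgroup.mem_top s⟩, hs⟩

end CfsgLib.OrbitSolvable
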