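import Mathlib

/-!
A module which is irreducible for an element inverted modulo `4` has dimension at most two.
-/

set_option autoImplicit false
set_option linter.unusedSectionVars false

namespace CfsgLib.OrbitSolvable

open Polynomial

variable {q : ℕ} [hq : Fact q.Prime] {V : Type*} [AddCommGroup V] [Module (ZMod q) V] [Finite V] [Nontrivial V]

set_option maxHeartbeats 1600000 in
theorem finrank_le_two (hq2 : q ≠ 2) (a x : V ≃ₗ[ZMod q] V) (k e : ℕ) (hk : 2 ≤ k) (ha : orderOf a = 2 ^ k)
    (he : e % 4 = 3) (hx : x * a * x⁻¹ = a ^ e) (hxx : Commute (x * x) a)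
    (hirr : ∀ W : Submodule (ZMod q) V, (∀ w ∈ W, a w ∈ W) → W = ⊥ ∨ W = ⊤) :
    Module.finrank (ZMod q) V ≤ 2 := by
  classical
  haveI : Module.Finite (ZMod q) V := Module.Finite.of_finite
  let φ : (V ≃ₗ[ZMod q] V) →* Module.End (ZMod q) V :=
    { toFun := fun g => (g : V →ₗ[ZMod q] V), map_one' := rfl, map_mul' := fun g h => rfl }
  have hφ : Function.Injective φ := fun g h e => LinearEquiv.ext fun v => LinearMap.congr_fun e v
  set T : Module.End (ZMod q) V := φ a with hT
  have hTo : orderOf T = 2 ^ k := by rw [hT, orderOf_injective φ hφ, ha]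
  have hint : IsIntegral (ZMod q) T := IsIntegral.of_finite _ _
  set m := minpoly (ZMod q) T with hm
  have hmon : m.Monic := minpoly.monic hint
  have hm1 : ¬ IsUnit m := minpoly.not_isUnit _ _
  have hcomm : ∀ (f : (ZMod q)[X]) (w : V), T (aeval T f w) = aeval T f (T w) := by
    intro f w
    have h1 : aeval T (X * f) = aeval T (f * X) := by rw [mul_comm]
    rw [map_mul, map_mul, aeval_X] at h1
    exact LinearMap.congr_fun h1 w
  have hirred : Irreducible m := by
    refine ⟨hm1, fun f g hfg => ?_⟩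
    have hm0 : m ≠ 0 := hmon.ne_zero
    have hker : ∀ w ∈ LinearMap.ker (aeval T f), a w ∈ LinearMap.ker (aeval T f) := by
      intro w hw
      rw [LinearMap.mem_ker] at hw ⊢
      have := hcomm f w
      rw [hw, map_zero] at this
      exact this.symm
    have key : m ∣ f ∨ m ∣ g := by
      rcases hirr _ hker with h | h
      · right
        refine minpoly.dvd _ _ (LinearMap.ext fun w => ?_)
        have h0 : aeval T f (aeval T g w) = 0 := by
          have h2 : aeval T (f * g) = 0 := by rw [← hfg]; exact minpoly.aeval _ _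
          rw [map_mul] at h2
          exact LinearMap.congr_fun h2 w
        have h3 : aeval T g w ∈ LinearMap.ker (aeval T f) := LinearMap.mem_ker.2 h0
        rw [h] at h3
        exact (Submodule.mem_bot _).1 h3
      · left
        exact minpoly.dvd _ _ (LinearMap.ker_eq_top.1 h)
    rcases key with h | h
    · right
      obtain ⟨c, hc⟩ := h
      have h1 : m * (c * g) = m * 1 := by rw [mul_one, ← mul_assoc, ← hc, ← hfg]
      exact IsUnit.of_mul_eq_one_right c (mul_left_cancel₀ hm0 h1)
    · left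
      obtain ⟨c, hc⟩ := h
      have h1 : m * (f * c) = m * 1 := by rw [mul_one, mul_left_comm, ← hc, ← hfg]
      exact IsUnit.of_mul_eq_one c (mul_left_cancel₀ hm0 h1)
  haveI : Fact (Irreducible m) := ⟨hirred⟩
  set K := AdjoinRoot m with hK
  set α : K := AdjoinRoot.root m with hα
  haveI : Module.Finite (ZMod q) K := hmon.finite_adjoinRoot
  haveI : Finite K := Module.finite_of_finite (ZMod q)
  have hzero : ∀ f : (ZMod q)[X], aeval α f = 0 ↔ aeval T f = 0 := by
    intro f
    rw [hα, AdjoinRoot.aeval_eq, AdjoinRoot.mk_eq_zero]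
    constructor
    · rintro ⟨c, rfl⟩
      rw [map_mul, minpoly.aeval, zero_mul]
    · exact minpoly.dvd _ _
  have hpow : ∀ i j : ℕ, α ^ i = α ^ j ↔ T ^ i = T ^ j := by
    intro i j
    have := hzero (X ^ i - X ^ j)
    simpa [sub_eq_zero] using this
  have hαo : orderOf α = 2 ^ k := by
    rw [← hTo]
    refine orderOf_eq_orderOf_iff.2 fun n => ?_
    have := hpow n 0
    simpa using this
  -- the conjugation gives an automorphism of the field
  have hTe : aeval (T ^ e) m = 0 := by
    have hTe' : T ^ e = φ x * T * φ x⁻¹ := by rw [hT, ← map_pow, ← hx, map_mul, map_mul]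
    have hinv : φ x⁻¹ * φ x = 1 := by rw [← map_mul, inv_mul_cancel, map_one]
    let u : (Module.End (ZMod q) V)ˣ := ⟨φ x, φ x⁻¹, by rw [← map_mul, mul_inv_cancel, map_one], hinv⟩
    have h1 : ∀ f : (ZMod q)[X], aeval ((u : Module.End (ZMod q) V) * T * (↑u⁻¹ : Module.End (ZMod q) V)) f =
        (u : Module.End (ZMod q) V) * aeval T f * (↑u⁻¹ : Module.End (ZMod q) V) := by
      intro f
      induction f using Polynomial.induction_on' with
      | add f g hf hg => simp [hf, hg, mul_add, add_mul]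
      | monomial n c =>
        rw [aeval_monomial, aeval_monomial, Units.conj_pow, ← mul_assoc, ← mul_assoc, ← mul_assoc,
          Algebra.commutes c (u : Module.End (ZMod q) V)]
    rw [hTe', show φ x * T * φ x⁻¹ = (u : Module.End (ZMod q) V) * T * (↑u⁻¹ : Module.End (ZMod q) V) from rfl,
      h1, hm, minpoly.aeval, mul_zero, zero_mul]
  have hαe : aeval (α ^ e) m = 0 := by
    have h1 := (hzero (m.comp (X ^ e))).2 (by rw [aeval_comp, aeval_X_pow]; exact hTe)
    rwa [aeval_comp, aeval_X_pow] at h1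
  let σ : K →ₐ[ZMod q] K := AdjoinRoot.liftAlgHom m (Algebra.ofId (ZMod q) K) (α ^ e) hαe
  obtain ⟨⟨j, hj⟩, hjσ⟩ := (FiniteField.bijective_frobeniusAlgHom_pow (ZMod q) K).2 σ
  have hfrob : ∀ (n : ℕ) (y : K), ((FiniteField.frobeniusAlgHom (ZMod q) K) ^ n) y = y ^ (q ^ n) := by
    intro n y
    induction n generalizing y with
    | zero => simp
    | succ n ih =>
      rw [pow_succ', AlgHom.mul_apply, ih, FiniteField.coe_frobeniusAlgHom]
      simp [ZMod.card, ← pow_mul, pow_succ]
  have hσα : α ^ e = α ^ (q ^ j) := by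
    have h1 := DFunLike.congr_fun hjσ α
    rw [hfrob] at h1
    rw [h1]
    exact (AdjoinRoot.liftAlgHom_root _ _ _ _).symm
  have hαfin : IsOfFinOrder α := by rw [← orderOf_pos_iff, hαo]; positivity
  have hmod : e ≡ q ^ j [MOD 2 ^ k] := hαo ▸ hαfin.pow_eq_pow_iff_modEq.1 hσα
  -- `j` is odd
  have hjodd : Odd j := by
    rw [← Nat.not_even_iff_odd]
    rintro ⟨i, rfl⟩
    have h4 : (4 : ℕ) ∣ 2 ^ k := ⟨2 ^ (k - 2), by rw [show (4 : ℕ) = 2 ^ 2 by norm_num, ← pow_add]; congr 1; omega⟩
    have h1 := (hmod.of_dvd h4)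
    rw [← two_mul, pow_mul, Nat.ModEq, he, Nat.pow_mod, Nat.pow_mod q 2 4] at h1
    have : q % 4 = 1 ∨ q % 4 = 3 := by
      have := hq.out.odd_of_ne_two hq2
      rw [Nat.odd_iff] at this
      omega
    rcases this with h | h <;> simp [h] at h1
  -- the square of `σ` is trivial
  have hee : e * e ≡ 1 [MOD 2 ^ k] := by
    have h1 : (x * x) * a * (x * x)⁻¹ = a ^ (e * e) := by
      rw [pow_mul, ← hx, conj_pow, ← hx]; group
    rw [hxx.eq, mul_inv_cancel_right] at h1
    rw [← ha]
    exact (pow_eq_pow_iff_modEq.1 (by rw [pow_one]; exact h1.symm))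
  have hfix : ∀ y : K, y ^ (q ^ (2 * j)) = y := by
    have h2 : α ^ (q ^ (2 * j)) = α := by
      nth_rewrite 2 [← pow_one α]
      rw [hαfin.pow_eq_pow_iff_modEq, hαo, two_mul, pow_add]
      exact (hmod.symm.mul hmod.symm).trans hee
    have h3 : (FiniteField.frobeniusAlgHom (ZMod q) K) ^ (2 * j) = 1 := by
      refine AdjoinRoot.algHom_ext ?_
      rw [hfrob, AlgHom.one_apply]
      exact h2
    intro y
    have h4 := DFunLike.congr_fun h3 y
    rwa [hfrob, AlgHom.one_apply] at h4
  have hd2j : Module.finrank (ZMod q) K ∣ 2 * j := by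
    rw [← FiniteField.orderOf_frobeniusAlgHom (ZMod q) K]
    refine orderOf_dvd_of_pow_eq_one (AlgHom.ext fun y => ?_)
    rw [hfrob, AlgHom.one_apply]
    exact hfix y
  have hdk : Module.finrank (ZMod q) K ∣ 2 ^ k := by
    rw [← FiniteField.orderOf_frobeniusAlgHom (ZMod q) K]
    refine orderOf_dvd_of_pow_eq_one (AdjoinRoot.algHom_ext ?_)
    rw [hfrob, AlgHom.one_apply]
    show α ^ q ^ 2 ^ k = α
    nth_rewrite 2 [← pow_one α]
    rw [hαfin.pow_eq_pow_iff_modEq, hαo]
    -- Euler
    have hcop : Nat.Coprime q (2 ^ k) := ((Nat.coprime_primes hq.out Nat.prime_two).2 hq2).pow_right k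
    have h5 := Nat.ModEq.pow_totient hcop
    obtain ⟨i, hi⟩ : ∃ i, 2 ^ k = (2 ^ k).totient * i := ⟨2, by
      rw [Nat.totient_prime_pow Nat.prime_two (by omega), show k = (k - 1) + 1 by omega, pow_succ]; simp⟩
    conv_lhs => rw [hi, pow_mul]
    simpa using h5.pow i
  have hd : Module.finrank (ZMod q) K ≤ 2 := by
    obtain ⟨i, -, hi⟩ := (Nat.dvd_prime_pow Nat.prime_two).1 hdk
    rw [hi] at hd2j ⊢
    by_contra hlt
    have hi2 : 2 ≤ i := by
      rcases Nat.lt_or_ge i 2 with h | h
      · interval_cases i <;> simp at hlt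
      · exact h
    obtain ⟨c, rfl⟩ := hjodd
    have h4 : (4 : ℕ) ∣ 2 * (2 * c + 1) := (pow_dvd_pow 2 hi2).trans hd2j
    omega
  -- the module is cyclic
  obtain ⟨v, hv⟩ := exists_ne (0 : V)
  let W : Submodule (ZMod q) V := LinearMap.range ((LinearMap.applyₗ v).comp (aeval T).toLinearMap)
  have hW : W = ⊤ := by
    refine (hirr W ?_).resolve_left fun h => hv ?_
    · rintro w ⟨f, rfl⟩
      refine ⟨X * f, ?_⟩
      show aeval T (X * f) v = T (aeval T f v)
      rw [map_mul, aeval_X]; rfl
    · have h1 : v ∈ W := ⟨1, by show aeval T (1 : (ZMod q)[X]) v = v; rw [map_one]; rfl⟩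
      rw [h] at h1
      exact (Submodule.mem_bot _).1 h1
  have hcard : Nat.card V ≤ Nat.card K := by
    let g : K → V := fun y => aeval T (Function.surjInv AdjoinRoot.mk_surjective y) v
    refine Nat.card_le_card_of_surjective g fun w => ?_
    obtain ⟨f, hf⟩ : w ∈ W := by rw [hW]; exact Submodule.mem_top
    refine ⟨AdjoinRoot.mk m f, ?_⟩
    have h1 := Function.surjInv_eq (AdjoinRoot.mk_surjective (g := m)) (AdjoinRoot.mk m f)
    rw [AdjoinRoot.mk_eq_mk] at h1
    obtain ⟨c, hc⟩ := h1
    rw [sub_eq_iff_eq_add] at hc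
    show aeval T (Function.surjInv (AdjoinRoot.mk_surjective (g := m)) (AdjoinRoot.mk m f)) v = w
    rw [hc, map_add, map_mul, minpoly.aeval, zero_mul, zero_add]
    exact hf
  rw [Module.natCard_eq_pow_finrank (K := ZMod q), Module.natCard_eq_pow_finrank (K := ZMod q) (V := K),
    Nat.card_zmod] at hcard
  exact ((Nat.pow_le_pow_iff_right hq.out.one_lt).1 hcard).trans hd

end CfsgLib.OrbitSolvable
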