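import Mathlib

/-!
The decomposition of an irreducible module of a `p`-group given by a normal elementary abelian subgroup of
order `p ^ 2`.
-/

set_option autoImplicit false
set_option linter.unusedSectionVars false

namespace CfsgLib.OrbitSolvable

variable {G : Type*} [Group G] [Finite G] {p : ℕ} [hpF : Fact p.Prime]

theorem exists_decomposition (q : ℕ) [Fact q.Prime] {V : Type*} [AddCommGroup V] [Module (ZMod q) V] [Finite V]
    [Nontrivial V] (hG : IsPGroup p G)
    (ρ : G →* (V ≃ₗ[ZMod q] V)) (hρ : Function.Injective ρ)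
    (hirr : ∀ W : Submodule (ZMod q) V, (∀ g : G, ∀ w ∈ W, ρ g w ∈ W) → W = ⊥ ∨ W = ⊤)
    (z w : G) (hzc : z ∈ Subgroup.center G) (hoz : orderOf z = p)
    (hwp : w ^ p = 1) (hwz : w ∉ Subgroup.zpowers z)
    (hcomm : ∀ g : G, g * w * g⁻¹ * w⁻¹ ∈ Subgroup.zpowers z) :
    ∃ (W : ZMod p → Submodule (ZMod q) V) (c : G → ZMod p) (g₀ : G), c g₀ = 1 ∧ iSupIndep W ∧ iSup W = ⊤ ∧
      (∀ i, W i ≠ ⊥) ∧ ∀ g i, ∀ u ∈ W i, ρ g u ∈ W (i + c g) := by
  classical
  have hp : p.Prime := hpF.out
  haveI : NeZero p := ⟨hp.ne_zero⟩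
  have hz1 : z ≠ 1 := fun h => hp.ne_one (by rw [← hoz, h, orderOf_one])
  have hmul : ∀ (g h : G) (v : V), ρ (g * h) v = ρ g (ρ h v) := fun g h v => by rw [map_mul]; rfl
  have hone : ∀ v : V, ρ 1 v = v := fun v => by rw [map_one]; rfl
  have hcz : ∀ g : G, g * z = z * g := fun g => Subgroup.mem_center_iff.1 hzc g
  -- fixed spaces
  let Fx : G → Submodule (ZMod q) V := fun x =>
    LinearMap.ker ((ρ x : V →ₗ[ZMod q] V) - LinearMap.id)
  have hFx : ∀ x v, v ∈ Fx x ↔ ρ x v = v := by
    intro x v; simp [Fx, sub_eq_zero]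
  have hFxconj : ∀ g x v, v ∈ Fx x → ρ g v ∈ Fx (g * x * g⁻¹) := by
    intro g x v hv
    rw [hFx] at hv ⊢
    rw [← hmul, inv_mul_cancel_right, hmul, hv]
  have hzfix : ∀ v, ρ z v = v → v = 0 := by
    intro v hv
    rcases hirr (Fx z) (fun g u hu => by
      have := hFxconj g z u hu
      rwa [hcz g, mul_inv_cancel_right] at this) with h | h
    · exact (Submodule.mem_bot (ZMod q)).1 (h ▸ (hFx z v).2 hv)
    · exfalso
      apply hz1
      apply hρ
      rw [map_one]
      exact LinearEquiv.ext fun u => (hFx z u).1 (h ▸ Submodule.mem_top)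
  have hqp : (p : ZMod q) ≠ 0 := by
    intro h
    rw [ZMod.natCast_eq_zero_iff, Nat.prime_dvd_prime_iff_eq Fact.out hp] at h
    subst h
    -- a `q`-group fixes a nonzero vector in characteristic `q`
    letI : MulAction G V :=
      { smul := fun g v => ρ g v
        one_smul := hone
        mul_smul := hmul }
    obtain ⟨n, hn⟩ : ∃ n, Nat.card V = q ^ n := by
      refine ⟨Module.finrank (ZMod q) V, ?_⟩
      rw [Module.natCard_eq_pow_finrank (K := ZMod q), Nat.card_zmod]
    have hdvd : q ∣ Nat.card V := by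
      have := Finite.one_lt_card (α := V)
      rcases n with _ | n
      · rw [hn, pow_zero] at this; omega
      · rw [hn, pow_succ]; exact dvd_mul_left _ _
    obtain ⟨b, hb, hb0⟩ := hG.exists_fixed_point_of_prime_dvd_card_of_fixed_point V hdvd
      (a := 0) (show ∀ g : G, g • (0 : V) = 0 from fun g => map_zero (ρ g))
    exact hb0 (hzfix b (hb z)).symm
  -- powers of `z`
  let zz : ZMod p → G := fun i => z ^ i.val
  have zz_add : ∀ i j, zz (i + j) = zz i * zz j := by
    intro i j
    simp only [zz]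
    rw [← pow_add, ZMod.val_add]
    exact (pow_eq_pow_mod (i.val + j.val) (hoz ▸ pow_orderOf_eq_one z : z ^ p = 1)).symm
  have zz0 : zz 0 = 1 := by simp [zz]
  have zz_inj : ∀ i, zz i = 1 → i = 0 := by
    intro i h
    have h1 := Nat.eq_zero_of_dvd_of_lt (orderOf_dvd_of_pow_eq_one h)
      (hoz.symm ▸ ZMod.val_lt i)
    exact (ZMod.val_eq_zero i).1 h1
  have hzzc : ∀ i g, g * zz i = zz i * g := fun i g =>
    Subgroup.mem_center_iff.1 ((Subgroup.center G).pow_mem hzc _) g
  have hzzfix : ∀ i : ZMod p, i ≠ 0 → ∀ v, ρ (zz i) v = v → v = 0 := by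
    intro i hi v hv
    apply hzfix
    have hk : ∀ k : ℕ, ρ (zz (k * i)) v = v := by
      intro k
      induction k with
      | zero => simp [zz0, hone]
      | succ k ih => rw [Nat.cast_succ, add_mul, one_mul, zz_add, hmul, hv, ih]
    have := hk (i⁻¹ : ZMod p).val
    rw [ZMod.natCast_zmod_val, inv_mul_cancel₀ hi] at this
    have h1 : zz 1 = z := by
      have : Fact (1 < p) := ⟨hp.one_lt⟩
      simp [zz, ZMod.val_one]
    rwa [h1] at this
  let xx : ZMod p → G := fun i => w * zz i
  have hxp : ∀ i, xx i ^ p = 1 := by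
    intro i
    simp only [xx]
    rw [Commute.mul_pow (hzzc i w), hwp, one_mul, ← pow_mul, mul_comm, pow_mul]
    rw [show z ^ p = 1 from hoz ▸ pow_orderOf_eq_one z, one_pow]
  -- sums along powers
  let S : ZMod p → V → V := fun i v => ∑ j ∈ Finset.range p, ρ (xx i ^ j) v
  have hSfix : ∀ i v, S i v ∈ Fx (xx i) := by
    intro i v
    rw [hFx, map_sum]
    have h2 := Finset.sum_range_succ (fun j => ρ (xx i ^ j) v) p
    rw [Finset.sum_range_succ', hxp, pow_zero] at h2
    simp only [hone] at h2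
    simp only [S, ← hmul, ← pow_succ']
    exact add_right_cancel h2
  have hzsum : ∀ (d : ZMod p), d ≠ 0 → ∀ v, ∑ i : ZMod p, ρ (zz (d * i)) v = 0 := by
    intro d hd v
    apply hzzfix d hd
    rw [map_sum]
    simp only [← hmul, ← zz_add]
    rw [← Equiv.sum_comp (Equiv.addLeft (1 : ZMod p)) (fun i => ρ (zz (d * i)) v)]
    simp [mul_add]
  have hzzpow : ∀ i (j : ℕ), zz i ^ j = zz ((j : ZMod p) * i) := by
    intro i j
    induction j with
    | zero => simp [zz0]
    | succ j ih => rw [pow_succ, ih, ← zz_add]; congr 1; push_cast; ring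
  have hSsum : ∀ v, ∑ i : ZMod p, S i v = (p : ZMod q) • v := by
    intro v
    simp only [S]
    rw [Finset.sum_comm, Finset.sum_eq_single 0]
    · simp only [pow_zero, hone, Finset.sum_const, Finset.card_univ, ZMod.card]
      rw [Nat.cast_smul_eq_nsmul]
    · intro j hj hj0
      simp only [xx, Commute.mul_pow (hzzc _ w), hzzpow, hmul]
      rw [← map_sum]
      rw [hzsum (j : ZMod p) (fun h => hj0 ?_) v, map_zero]
      exact Nat.eq_zero_of_dvd_of_lt ((ZMod.natCast_eq_zero_iff _ _).1 h) (Finset.mem_range.1 hj)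
    · simp [hp.ne_zero]
  have hSkill : ∀ i k, i ≠ k → ∀ v ∈ Fx (xx k), S i v = 0 := by
    intro i k hik v hv
    have hd : i - k ≠ 0 := sub_ne_zero.2 hik
    have e : xx i = zz (i - k) * xx k := by
      simp only [xx]
      rw [← hzzc, mul_assoc, ← zz_add, add_sub_cancel]
    have hj : ∀ j : ℕ, ρ (xx i ^ j) v = ρ (zz ((j : ZMod p) * (i - k))) v := by
      intro j
      rw [e, Commute.mul_pow (hzzc _ _).symm, hmul, hzzpow]
      congr 1
      induction j with
      | zero => rw [pow_zero, hone]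
      | succ j ih => rw [pow_succ, hmul, (hFx _ _).1 hv, ih]
    simp only [S, hj]
    rw [← hzsum (i - k) hd v]
    refine Finset.sum_bij' (fun j _ => (j : ZMod p)) (fun x _ => x.val) (fun _ _ => Finset.mem_univ _)
      (fun x _ => Finset.mem_range.2 (ZMod.val_lt x))
      (fun j hj => ZMod.val_natCast_of_lt (Finset.mem_range.1 hj))
      (fun x _ => ZMod.natCast_zmod_val x) (fun j _ => by rw [mul_comm])
  have hSself : ∀ i, ∀ v ∈ Fx (xx i), S i v = (p : ZMod q) • v := by
    intro i v hv
    rw [← hSsum v, Finset.sum_eq_single i (fun k _ hk => hSkill k i hk v hv) (by simp)]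
  -- the exponent homomorphism
  have hc' : ∀ g : G, ∃ c : ZMod p, g * w * g⁻¹ = w * zz c := by
    intro g
    obtain ⟨k, hk⟩ := Subgroup.mem_zpowers_iff.1 (hcomm g)
    refine ⟨(k : ZMod p), ?_⟩
    have h1 : zz (k : ZMod p) = z ^ k := by
      simp only [zz]
      rw [← zpow_natCast, ZMod.val_intCast]
      conv_rhs => rw [← zpow_mod_orderOf, hoz]
    rw [h1, Subgroup.mem_center_iff.1 ((Subgroup.center G).zpow_mem hzc k) w, hk]
    group
  choose c hc using hc'
  have hconj : ∀ g i, g * xx i * g⁻¹ = xx (i + c g) := by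
    intro g i
    simp only [xx]
    rw [add_comm i, zz_add, ← mul_assoc w, ← hc g, mul_assoc (g * w) g⁻¹, hzzc i g⁻¹]
    group
  have hcmul : ∀ g h, c (g * h) = c g + c h := by
    intro g h
    have e0 : w = xx 0 := by simp [xx, zz0]
    have h1 : g * h * w * (g * h)⁻¹ = xx (c h + c g) := by
      rw [← hconj g (c h), show xx (c h) = h * w * h⁻¹ from (hc h).symm]; group
    rw [hc (g * h)] at h1
    have h2 : zz (c (g * h)) = zz (c g + c h) := by
      rw [add_comm]; exact mul_left_cancel h1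
    by_contra hne
    have h3 := zz_inj (c (g * h) - (c g + c h)) (by
      have h4 := zz_add (c (g * h) - (c g + c h)) (c g + c h)
      rw [sub_add_cancel, h2] at h4
      exact mul_eq_right.1 h4.symm)
    exact hne (sub_eq_zero.1 h3)
  let W : ZMod p → Submodule (ZMod q) V := fun i => Fx (xx i)
  have hmapW : ∀ g i, (W i).map (ρ g : V →ₗ[ZMod q] V) = W (i + c g) := by
    intro g i
    ext v
    constructor
    · rintro ⟨u, hu, rfl⟩
      change ρ g u ∈ Fx (xx (i + c g))
      rw [← hconj]; exact hFxconj g _ u hu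
    · intro hv
      refine ⟨ρ g⁻¹ v, ?_, ?_⟩
      · have h1 := hFxconj g⁻¹ _ v hv
        rw [← hconj] at h1
        change ρ g⁻¹ v ∈ Fx (xx i)
        convert h1 using 2; group
      · change ρ g (ρ g⁻¹ v) = v
        rw [← hmul, mul_inv_cancel, hone]
  have htop : iSup W = ⊤ := by
    rw [eq_top_iff]
    intro v _
    have h1 : v = (p : ZMod q)⁻¹ • ∑ i : ZMod p, S i v := by
      rw [hSsum, smul_smul, inv_mul_cancel₀ hqp, one_smul]
    rw [h1]
    exact Submodule.smul_mem _ _ (Submodule.sum_mem _ fun i _ =>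
      Submodule.mem_iSup_of_mem i (hSfix i v))
  have hxne : ∀ i, xx i ≠ 1 := by
    intro i h
    apply hwz
    rw [mul_eq_one_iff_eq_inv.1 h]
    exact Subgroup.inv_mem _ (Subgroup.pow_mem _ (Subgroup.mem_zpowers z) _)
  have hind : iSupIndep W := by
    rw [iSupIndep_def]
    intro i
    rw [Submodule.disjoint_def]
    intro v hv hv'
    have hle : (⨆ (k) (_ : k ≠ i), W k) ≤ LinearMap.ker
        (∑ j ∈ Finset.range p, (ρ (xx i ^ j) : V →ₗ[ZMod q] V)) := by
      refine iSup₂_le fun k hk u hu => ?_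
      rw [LinearMap.mem_ker, LinearMap.sum_apply]
      exact hSkill i k hk.symm u hu
    have h0 : S i v = 0 := by
      have := hle hv'
      rwa [LinearMap.mem_ker, LinearMap.sum_apply] at this
    rw [hSself i v hv] at h0
    exact (smul_eq_zero.1 h0).resolve_left hqp
  have hmem : ∀ g i, ∀ u ∈ W i, ρ g u ∈ W (i + c g) := fun g i u hu => by
    rw [← hmapW g i]; exact Submodule.mem_map_of_mem (f := (ρ g : V →ₗ[ZMod q] V)) hu
  obtain ⟨g₁, hg₁⟩ : ∃ g, c g ≠ 0 := by
    by_contra h
    push Not at h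
    have hall : ∀ i, W i = ⊥ := fun i => by
      rcases hirr (W i) (fun g u hu => by have := hmem g i u hu; rwa [h, add_zero] at this) with h1 | h1
      · exact h1
      · exfalso
        apply hxne i
        apply hρ
        rw [map_one]
        exact LinearEquiv.ext fun u => (hFx _ u).1 (show u ∈ W i by rw [h1]; exact Submodule.mem_top)
    exact bot_ne_top ((iSup_eq_bot.2 hall).symm.trans htop)
  have hpow : ∀ n : ℕ, c (g₁ ^ n) = (n : ZMod p) * c g₁ := by
    intro n
    induction n with
    | zero =>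
      have := hcmul 1 1
      rw [mul_one, left_eq_add] at this
      simpa using this
    | succ n ih => rw [pow_succ, hcmul, ih]; push_cast; ring
  set g₀ := g₁ ^ ((c g₁)⁻¹).val
  have hg₀ : c g₀ = 1 := by
    rw [hpow, ZMod.natCast_zmod_val, inv_mul_cancel₀ hg₁]
  refine ⟨W, c, g₀, hg₀, hind, htop, fun i hi => ?_, hmem⟩
  have hall : ∀ k : ℕ, W (i + k) = ⊥ := fun k => by
    induction k with
    | zero => simpa using hi
    | succ k ih => rw [Nat.cast_succ, ← add_assoc, ← hg₀, ← hmapW, ih, Submodule.map_bot]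
  refine bot_ne_top ((iSup_eq_bot.2 fun j => ?_).symm.trans htop)
  have := hall (j - i).val
  rwa [ZMod.natCast_zmod_val, add_sub_cancel] at this

end CfsgLib.OrbitSolvable
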