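import Mathlib
import Cfsg.Agent.H29.PImprimitive
import Cfsg.Agent.OrbitSolvable.Pair
import Cfsg.Agent.OrbitSolvable.Blocks
import Cfsg.Agent.OrbitSolvable.Field
import Cfsg.Agent.OrbitSolvable.Cyclic
import Cfsg.Agent.Kazarin.Main
import Cfsg.Agent.MaxCent.Basic

/-!
The irreducible case.
-/

set_option autoImplicit false
set_option linter.style.haveILetI false
set_option linter.unusedSectionVars false

namespace CfsgLib.OrbitSolvable

open scoped commutatorElement Pointwise

theorem four_comm : ∀ a b : DihedralGroup 2, a * b = b * a := by decide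

theorem zmod_two : ∀ i : ZMod 2, i = 0 ∨ i = 1 := by decide

theorem four_sq : (DihedralGroup.sr (0 : ZMod 2)) ^ 2 = 1 := by decide

variable {A V : Type*} [Group A] [Finite A] [AddCommGroup V] [Finite V] {q : ℕ} [hq : Fact q.Prime]
  [Module (ZMod q) V]

/-- The stabiliser of a vector. -/
def stab (ρ : A →* (V ≃ₗ[ZMod q] V)) (v : V) : Subgroup A where
  carrier := {a | ρ a v = v}
  one_mem' := by show ρ 1 v = v; rw [map_one]; rfl
  mul_mem' := by
    intro a b ha hb
    show ρ (a * b) v = v
    rw [map_mul]; show ρ a (ρ b v) = v; rw [show ρ b v = v from hb]; exact ha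
  inv_mem' := by
    intro a ha
    show ρ a⁻¹ v = v
    nth_rewrite 1 [← (show ρ a v = v from ha)]
    show (ρ a⁻¹ * ρ a) v = v
    rw [← map_mul, inv_mul_cancel, map_one]; rfl

theorem rank_one_data {G : Type*} [Group G] [Finite G] {p : ℕ} [hp : Fact p.Prime] (hG : IsPGroup p G)
    (hnc : ¬ IsCyclic G) :
    (∃ z w : G, z ∈ Subgroup.center G ∧ orderOf z = p ∧ w ^ p = 1 ∧ w ∉ Subgroup.zpowers z ∧
      ∀ g : G, g * w * g⁻¹ * w⁻¹ ∈ Subgroup.zpowers z) ∨
    (p = 2 ∧ ∃ (a x : G) (k e : ℕ), 2 ≤ k ∧ orderOf a = 2 ^ k ∧ e % 4 = 3 ∧ x * a * x⁻¹ = a ^ e ∧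
      x * x ∈ Subgroup.zpowers a ∧ ∀ g : G, g ∈ Subgroup.zpowers a ∨ x⁻¹ * g ∈ Subgroup.zpowers a) := by
  haveI := Fact.mk Nat.prime_two
  obtain ⟨m, hm⟩ := IsPGroup.iff_card.1 hG
  have htwo : ∀ {n : ℕ}, 2 * n = p ^ m → n ≠ 0 → p = 2 ∧ ∃ k, n = 2 ^ k := by
    intro n hn hn0
    have h2 : 2 ∣ p ^ m := ⟨n, hn.symm⟩
    obtain rfl : p = 2 := ((Nat.prime_dvd_prime_iff_eq Nat.prime_two hp.out).1 (Nat.prime_two.dvd_of_dvd_pow h2)).symm
    obtain ⟨k, -, hk⟩ := (Nat.dvd_prime_pow Nat.prime_two).1 (⟨2, by rw [← hn]; ring⟩ : n ∣ 2 ^ m)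
    exact ⟨rfl, k, hk⟩
  by_cases hq : ∃ n, Nonempty (G ≃* QuaternionGroup n)
  · obtain ⟨n, ⟨e⟩⟩ := hq
    have hn0 : n ≠ 0 := by
      rintro rfl
      haveI : Finite (QuaternionGroup 0) := Finite.of_equiv G e.toEquiv
      haveI : Infinite (QuaternionGroup 0) :=
        Infinite.of_injective (fun i : ℤ => (QuaternionGroup.a i : QuaternionGroup 0)) fun i j h => QuaternionGroup.a.inj h
      exact not_finite (QuaternionGroup 0)
    haveI : NeZero n := ⟨hn0⟩
    have hcard : 2 * (2 * n) = p ^ m := by
      rw [← hm, Nat.card_congr e.toEquiv, Nat.card_eq_fintype_card, QuaternionGroup.card]; ring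
    obtain ⟨rfl, k, hk⟩ := htwo hcard (by omega)
    have hk2 : 2 ≤ k := by
      rcases Nat.lt_or_ge k 2 with h | h
      · interval_cases k
        · omega
        · exfalso
          obtain rfl : n = 1 := by omega
          haveI : IsCyclic (QuaternionGroup 1) := QuaternionGroup.quaternionGroup_one_isCyclic
          exact hnc (isCyclic_of_surjective e.symm.toMonoidHom e.symm.surjective)
      · exact h
    right
    refine ⟨rfl, e.symm (QuaternionGroup.a 1), e.symm (QuaternionGroup.xa 0), k, 2 ^ k - 1, hk2, ?_, ?_, ?_, ?_, ?_⟩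
    · rw [MulEquiv.orderOf_eq, QuaternionGroup.orderOf_a_one, hk]
    · obtain ⟨j, rfl⟩ : ∃ j, k = j + 2 := ⟨k - 2, by omega⟩
      have : 1 ≤ 2 ^ j := Nat.one_le_pow _ _ (by norm_num)
      rw [pow_add]; omega
    · rw [← map_inv, ← map_mul, ← map_mul, ← map_pow]
      congr 1
      rw [QuaternionGroup.a_one_pow, mul_inv_eq_iff_eq_mul, QuaternionGroup.xa_mul_a, QuaternionGroup.a_mul_xa]
      congr 1
      rw [Nat.cast_sub (Nat.one_le_pow _ _ (by norm_num)), ← hk]
      simp
    · rw [← map_mul, QuaternionGroup.xa_mul_xa]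
      refine Subgroup.mem_zpowers_iff.2 ⟨(n : ℤ), ?_⟩
      rw [zpow_natCast, ← map_pow, QuaternionGroup.a_one_pow]
      simp
    · intro g
      rcases hg : e g with i | i
      · left
        refine Subgroup.mem_zpowers_iff.2 ⟨(i.val : ℤ), ?_⟩
        rw [zpow_natCast, ← map_pow, QuaternionGroup.a_one_pow, ZMod.natCast_zmod_val, ← hg,
          MulEquiv.symm_apply_apply]
      · right
        refine Subgroup.mem_zpowers_iff.2 ⟨(i.val : ℤ), ?_⟩
        rw [zpow_natCast, eq_inv_mul_iff_mul_eq, ← map_pow, ← map_mul, QuaternionGroup.a_one_pow,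
          ZMod.natCast_zmod_val, QuaternionGroup.xa_mul_a, zero_add, ← hg, MulEquiv.symm_apply_apply]
  by_cases hd : ∃ n, Nonempty (G ≃* DihedralGroup n)
  · obtain ⟨n, ⟨e⟩⟩ := hd
    have hn0 : n ≠ 0 := by
      rintro rfl
      haveI : Finite (DihedralGroup 0) := Finite.of_equiv G e.toEquiv
      exact not_finite (DihedralGroup 0)
    haveI : NeZero n := ⟨hn0⟩
    have hcard : 2 * n = p ^ m := by
      rw [← hm, Nat.card_congr e.toEquiv, DihedralGroup.nat_card]
    obtain ⟨rfl, k, hk⟩ := htwo hcard hn0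
    rcases Nat.lt_or_ge k 2 with h | h
    · interval_cases k
      · exfalso
        refine hnc ?_
        have : (Nat.card G).Prime := by
          rw [Nat.card_congr e.toEquiv, DihedralGroup.nat_card, hk]; norm_num
        haveI := Fact.mk this
        exact isCyclic_of_prime_card rfl
      · left
        obtain rfl : n = 2 := by omega
        refine ⟨e.symm (DihedralGroup.r 1), e.symm (DihedralGroup.sr 0), ?_, ?_, ?_, ?_, ?_⟩
        · refine Subgroup.mem_center_iff.2 fun g => ?_
          apply e.injective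
          rw [map_mul, map_mul, MulEquiv.apply_symm_apply]
          exact four_comm _ _
        · rw [MulEquiv.orderOf_eq, DihedralGroup.orderOf_r_one]
        · rw [← map_pow]
          rw [four_sq, map_one]
        · intro hmem
          obtain ⟨i, hi⟩ := Subgroup.mem_zpowers_iff.1 hmem
          have := congrArg e hi
          rw [map_zpow, MulEquiv.apply_symm_apply, MulEquiv.apply_symm_apply] at this
          have h1 : (DihedralGroup.sr (0 : ZMod 2)) ∈ Subgroup.zpowers (DihedralGroup.r (1 : ZMod 2)) :=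
            Subgroup.mem_zpowers_iff.2 ⟨i, this⟩
          obtain ⟨j, hj⟩ := (isOfFinOrder_of_finite _).mem_powers_iff_mem_zpowers.2 h1
          simp [DihedralGroup.r_one_pow] at hj
        · intro g
          have h1 : g * e.symm (DihedralGroup.sr 0) * g⁻¹ * (e.symm (DihedralGroup.sr 0))⁻¹ = 1 := by
            apply e.injective
            rw [map_one, map_mul, map_mul, map_mul, map_inv, map_inv, MulEquiv.apply_symm_apply]
            rw [four_comm (e g), mul_inv_cancel_right, mul_inv_cancel]
          rw [h1]; exact one_mem _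
    right
    refine ⟨rfl, e.symm (DihedralGroup.r 1), e.symm (DihedralGroup.sr 0), k, 2 ^ k - 1, h, ?_, ?_, ?_, ?_, ?_⟩
    · rw [MulEquiv.orderOf_eq, DihedralGroup.orderOf_r_one, hk]
    · obtain ⟨j, rfl⟩ : ∃ j, k = j + 2 := ⟨k - 2, by omega⟩
      have : 1 ≤ 2 ^ j := Nat.one_le_pow _ _ (by norm_num)
      rw [pow_add]; omega
    · rw [← map_inv, ← map_mul, ← map_mul, ← map_pow]
      congr 1
      rw [DihedralGroup.r_one_pow, mul_inv_eq_iff_eq_mul, DihedralGroup.sr_mul_r, DihedralGroup.r_mul_sr]
      congr 1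
      rw [Nat.cast_sub (Nat.one_le_pow _ _ (by norm_num)), ← hk]
      simp
    · rw [← map_mul, DihedralGroup.sr_mul_self, map_one]; exact one_mem _
    · intro g
      rcases hg : e g with i | i
      · left
        refine Subgroup.mem_zpowers_iff.2 ⟨(i.val : ℤ), ?_⟩
        rw [zpow_natCast, ← map_pow, DihedralGroup.r_one_pow, ZMod.natCast_zmod_val, ← hg,
          MulEquiv.symm_apply_apply]
      · right
        refine Subgroup.mem_zpowers_iff.2 ⟨(i.val : ℤ), ?_⟩
        rw [zpow_natCast, eq_inv_mul_iff_mul_eq, ← map_pow, ← map_mul, DihedralGroup.r_one_pow,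
          ZMod.natCast_zmod_val, DihedralGroup.sr_mul_r, zero_add, ← hg, MulEquiv.symm_apply_apply]
  by_cases hsd : Cfsg.IsQuasiDihedral G
  · obtain ⟨n, hn, hcard, x, y, hx, hy, hyx⟩ := hsd
    obtain rfl : p = 2 := (htwo (n := 2 ^ n) (by rw [← hm, hcard, pow_succ]; ring) (by positivity)).1
    right
    refine ⟨rfl, x, y, n, 2 ^ (n - 1) - 1, by omega, hx, ?_, hyx, ?_, ?_⟩
    · obtain ⟨j, rfl⟩ : ∃ j, n = j + 3 := ⟨n - 3, by omega⟩
      have : 1 ≤ 2 ^ j := Nat.one_le_pow _ _ (by norm_num)
      rw [show j + 3 - 1 = j + 2 by omega, pow_add]; omega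
    · rw [← pow_two, ← hy, pow_orderOf_eq_one]; exact one_mem _
    · have hidx : (Subgroup.zpowers x).index = 2 := by
        have h1 := (Subgroup.zpowers x).card_mul_index
        rw [Nat.card_zpowers, hx, hcard, pow_succ] at h1
        exact Nat.eq_of_mul_eq_mul_left (by positivity) h1
      have hyn : y ∉ Subgroup.zpowers x := by
        intro h
        obtain ⟨i, hi⟩ := Subgroup.mem_zpowers_iff.1 h
        have hc : y * x * y⁻¹ = x := by rw [← hi]; group
        rw [hc] at hyx
        nth_rewrite 1 [← pow_one x] at hyx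
        rw [pow_eq_pow_iff_modEq, hx, Nat.ModEq, Nat.mod_eq_of_lt, Nat.mod_eq_of_lt] at hyx
        · have : 2 ^ 2 ≤ 2 ^ (n - 1) := Nat.pow_le_pow_right (by norm_num) (by omega)
          omega
        · have : 2 ^ (n - 1) ≤ 2 ^ n := Nat.pow_le_pow_right (by norm_num) (by omega)
          have : 0 < 2 ^ (n - 1) := by positivity
          omega
        · exact Nat.one_lt_pow (by omega) (by norm_num)
      intro g
      by_cases hgx : g ∈ Subgroup.zpowers x
      · exact Or.inl hgx
      · right
        rw [Subgroup.mul_mem_iff_of_index_two hidx, inv_mem_iff]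
        simp [hyn, hgx]
  left
  push Not at hq hd
  exact Cfsg.Agent.H29.PImprimitive.exists_central_pair hG hnc (fun n => not_nonempty_iff.2 (hq n))
    (fun n => not_nonempty_iff.2 (hd n)) hsd

theorem no_perfect {p : ℕ} [hp : Fact p.Prime] (ρ : A →* (V ≃ₗ[ZMod q] V)) (hρ : Function.Injective ρ)
    (hqA : ¬ q ∣ Nat.card A) (hidx : ∀ v, ∃ i, (stab ρ v).index = p ^ i) (hns : ¬ Group.IsSolvable A)
    (hsub : ∀ N : Subgroup A, N.Normal → N ≠ ⊤ → Group.IsSolvable N)
    (hirr : ∀ W : Submodule (ZMod q) V, (∀ a : A, ∀ w ∈ W, ρ a w ∈ W) → W = ⊥ ∨ W = ⊤) : False := by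
  classical
  have hmul : ∀ (a b : A) (w : V), ρ (a * b) w = ρ a (ρ b w) := fun a b w => by rw [map_mul]; rfl
  have hone : ∀ w : V, ρ 1 w = w := fun w => by rw [map_one]; rfl
  have hperf : commutator A = ⊤ := by
    by_contra h
    haveI := hsub (commutator A) inferInstance h
    exact hns (Group.isSolvable_of_ker_le_range (commutator A).subtype (Abelianization.of (G := A))
      (by rw [Abelianization.ker_of, Subgroup.range_subtype]))
  haveI : Nontrivial V := by
    by_contra h
    rw [not_nontrivial_iff_subsingleton] at h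
    haveI : Subsingleton A := ⟨fun a b => hρ (LinearEquiv.ext fun v => Subsingleton.elim _ _)⟩
    exact hns inferInstance
  obtain ⟨P⟩ : Nonempty (Sylow p A) := inferInstance
  have horb : ∀ (a : A) (v : V), ∃ x ∈ (P : Subgroup A), ρ a v = ρ x v := by
    intro a v
    obtain ⟨i, hi⟩ := hidx v
    obtain ⟨u, hu, c, hc, he⟩ := CfsgLib.Kazarin.exists_mul (stab ρ v) hi P a
    refine ⟨u, hu, ?_⟩
    rw [he, hmul, show ρ c v = v from hc]
  have hP1 : (P : Subgroup A) ≠ ⊥ := by
    intro h
    refine hns ?_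
    haveI : Subsingleton A := ⟨fun a b => hρ (LinearEquiv.ext fun v => ?_)⟩
    · exact inferInstance
    · obtain ⟨x, hx, e⟩ := horb a v
      obtain ⟨y, hy, e'⟩ := horb b v
      rw [h, Subgroup.mem_bot] at hx hy
      rw [e, e', hx, hy]
  have hPirr : ∀ W : Submodule (ZMod q) V, (∀ x ∈ (P : Subgroup A), ∀ w ∈ W, ρ x w ∈ W) → W = ⊥ ∨ W = ⊤ :=
    fun W hW => hirr W fun a w hw => by
      obtain ⟨x, hx, e⟩ := horb a w
      rw [e]; exact hW x hx w hw
  set ρP : (P : Subgroup A) →* (V ≃ₗ[ZMod q] V) := ρ.comp (P : Subgroup A).subtype with hρP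
  have hρPinj : Function.Injective ρP := hρ.comp (P : Subgroup A).subtype_injective
  by_cases hcyc : IsCyclic (P : Subgroup A)
  · by_cases hp2 : p = 2
    · subst hp2
      have hA1 : 2 ∣ Nat.card A :=
        ((IsPGroup.card_eq_or_dvd P.isPGroup').resolve_left fun h => hP1 (Subgroup.card_eq_one.1 h)).trans
          (Subgroup.card_subgroup_dvd_card _)
      have hmf : (Nat.card A).minFac = 2 := (Nat.minFac_eq_two_iff _).2 hA1
      obtain ⟨P', N, hN, hc⟩ := CfsgLib.Transfer.burnside_normal_complement P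
        (IsCyclic.normalizer_le_centralizer hmf hcyc)
      haveI := hN
      by_cases hNt : N = ⊤
      · have h1 := hc.card_mul
        rw [hNt, Subgroup.card_top] at h1
        have h2 : Nat.card (P' : Subgroup A) = 1 := mul_eq_left₀ (Nat.card_pos.ne') |>.1 h1
        have h3 : 2 ∣ Nat.card (P' : Subgroup A) := P'.dvd_card_of_dvd_card hA1
        rw [h2] at h3
        omega
      · haveI := hsub N hN hNt
        have hq2 : IsPGroup 2 (A ⧸ N) := by
          obtain ⟨j, hj⟩ := IsPGroup.iff_card.1 P'.isPGroup'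
          exact IsPGroup.of_card (n := j) (hc.symm.index_eq_card.trans hj)
        haveI := hq2.isNilpotent
        exact hns (Group.isSolvable_of_ker_le_range N.subtype (QuotientGroup.mk' N)
          (by rw [QuotientGroup.ker_mk', Subgroup.range_subtype]))
    · obtain ⟨v, hv⟩ := exists_ne (0 : V)
      refine no_cyclic hp2 ρ hρ hqA ?_ hns P hcyc hP1 horb hPirr v hv
      intro N hN
      by_contra hcon
      push Not at hcon
      haveI := hN
      haveI := hsub N hN hcon.2
      -- the last nontrivial derived subgroup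
      obtain ⟨D, hDn, hD1, hDab⟩ : ∃ D : Subgroup A, D.Normal ∧ D ≠ ⊥ ∧ ∀ x ∈ D, ∀ y ∈ D, x * y = y * x := by
        obtain ⟨M, hM⟩ := (Set.toFinite {M : Subgroup A | M.Normal ∧ M ≠ ⊥ ∧ M ≤ N}).exists_minimal ⟨N, hN, hcon.1, le_rfl⟩
        obtain ⟨hMn, hM1, hMN⟩ := hM.prop
        haveI := hMn
        refine ⟨M, hMn, hM1, fun x hx y hy => ?_⟩
        haveI : Group.IsSolvable M := Group.isSolvable_of_isSolvable_injective (Subgroup.inclusion_injective hMN)
        haveI : Nontrivial M := (Subgroup.nontrivial_iff_ne_bot M).2 hM1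
        have hlt : ⁅M, M⁆ < M := by
          rw [← Subgroup.map_subtype_commutator M]
          have h4 := Subgroup.map_subtype_lt_map_subtype.2 (Group.IsSolvable.commutator_lt_top_of_nontrivial M)
          rwa [← MonoidHom.range_eq_map, Subgroup.range_subtype] at h4
        have hb : ⁅M, M⁆ = ⊥ := by
          by_contra hne
          exact hlt.ne (le_antisymm hlt.le (hM.le_of_le ⟨inferInstance, hne, hlt.le.trans hMN⟩ hlt.le))
        exact commutatorElement_eq_one_iff_mul_comm.1 (Subgroup.mem_bot.1 (hb ▸ Subgroup.commutator_mem_commutator hx hy))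
      haveI := hDn
      obtain ⟨l, hl, hld⟩ := Nat.exists_prime_and_dvd (fun h => hD1 (Subgroup.card_eq_one.1 h) : Nat.card D ≠ 1)
      haveI := Fact.mk hl
      let O : Subgroup A :=
        { carrier := {a | a ∈ D ∧ a ^ l = 1}
          one_mem' := ⟨one_mem D, one_pow l⟩
          mul_mem' := by
            rintro a b ⟨ha, ha'⟩ ⟨hb, hb'⟩
            exact ⟨mul_mem ha hb, by rw [Commute.mul_pow (hDab a ha b hb), ha', hb', one_mul]⟩
          inv_mem' := by
            rintro a ⟨ha, ha'⟩
            exact ⟨inv_mem ha, by rw [inv_pow, ha', inv_one]⟩ }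
      haveI hOn : O.Normal := ⟨fun a ha g => ⟨hDn.conj_mem a ha.1 g, by rw [conj_pow, ha.2, mul_one, mul_inv_cancel]⟩⟩
      obtain ⟨⟨z, hzD⟩, hzo⟩ := exists_prime_orderOf_dvd_card' l hld
      rw [Subgroup.orderOf_mk] at hzo
      have hzO : z ∈ O := ⟨hzD, by rw [← hzo, pow_orderOf_eq_one]⟩
      have hOl : IsPGroup l O := fun a => ⟨1, Subtype.ext (by simpa using a.2.2)⟩
      have hlp : l = p := by
        by_contra hne
        refine absurd (hρ (LinearEquiv.ext fun w => ?_) : z = 1) (fun e => by rw [e, orderOf_one] at hzo; exact hl.ne_one hzo.symm)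
        rw [map_one]
        obtain ⟨i, hi⟩ := hidx w
        obtain ⟨j, hj⟩ := hOl.index ((stab ρ w).subgroupOf O)
        have h1 : O.relIndex (stab ρ w) ∣ O.index := Subgroup.relIndex_dvd_index_of_normal _ _
        have h2 : (stab ρ w).relIndex O * O.index = O.relIndex (stab ρ w) * (stab ρ w).index := by
          rw [← Subgroup.inf_relIndex_right (stab ρ w) O, Subgroup.relIndex_mul_index inf_le_right,
            ← Subgroup.inf_relIndex_right O (stab ρ w), Subgroup.relIndex_mul_index inf_le_right, inf_comm]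
        have h3 : (stab ρ w).relIndex O ∣ p ^ i := by
          obtain ⟨c, hc⟩ := h1
          refine ⟨c, ?_⟩
          rw [hc, hi, mul_left_comm] at h2
          exact (Nat.eq_of_mul_eq_mul_left (Nat.pos_of_ne_zero Subgroup.index_ne_zero_of_finite) h2).symm
        rw [show (stab ρ w).relIndex O = l ^ j from hj] at h3
        have h4 : l ^ j = 1 := Nat.eq_one_of_dvd_coprimes (((Nat.coprime_primes hl hp.out).2 hne).pow j i) dvd_rfl h3
        have h5 : O ≤ stab ρ w := Subgroup.relIndex_eq_one.1 (hj.trans h4)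
        exact h5 hzO
      subst hlp
      obtain ⟨P', hP'⟩ := hOl.exists_le_sylow
      have hzP : z ∈ (P : Subgroup A) := by
        obtain ⟨a, rfl⟩ := MulAction.exists_smul_eq A P' P
        rw [Sylow.coe_subgroup_smul, CfsgLib.MaxCent.mem_conj_smul_iff]
        apply hP'
        have := hOn.conj_mem z hzO a⁻¹
        simpa using this
      have hOP : ∀ o ∈ O, o ∈ (P : Subgroup A) := fun o ho => by
        obtain ⟨a, rfl⟩ := MulAction.exists_smul_eq A P' P
        rw [Sylow.coe_subgroup_smul, CfsgLib.MaxCent.mem_conj_smul_iff]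
        apply hP'
        have := hOn.conj_mem o ho a⁻¹
        simpa using this
      -- conjugation on a cyclic group is commutative
      haveI : IsCyclic O :=
        isCyclic_of_injective (Subgroup.inclusion (fun o ho => hOP o ho : O ≤ (P : Subgroup A))) (Subgroup.inclusion_injective _)
      obtain ⟨⟨g, hg⟩, hgen⟩ := IsCyclic.exists_generator (α := O)
      have hgg : ∀ o ∈ O, ∃ k : ℤ, g ^ k = o := fun o ho => by
        obtain ⟨k, hk⟩ := Subgroup.mem_zpowers_iff.1 (hgen ⟨o, ho⟩)
        exact ⟨k, by simpa using congrArg Subtype.val hk⟩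
      have hcom : commutator A ≤ Subgroup.centralizer ({g} : Set A) := by
        rw [commutator_def, Subgroup.commutator_le]
        intro x _ y _
        rw [Subgroup.mem_centralizer_singleton_iff]
        obtain ⟨i, hi⟩ := hgg _ (hOn.conj_mem g hg x)
        obtain ⟨j, hj⟩ := hgg _ (hOn.conj_mem g hg y)
        have h1 : ∀ o ∈ O, x * y * o * (x * y)⁻¹ = y * x * o * (y * x)⁻¹ := by
          intro o ho
          obtain ⟨k, rfl⟩ := hgg o ho
          have e1 : x * y * g ^ k * (x * y)⁻¹ = x * (y * g ^ k * y⁻¹) * x⁻¹ := by group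
          have e2 : y * x * g ^ k * (y * x)⁻¹ = y * (x * g ^ k * x⁻¹) * y⁻¹ := by group
          rw [e1, e2, ← conj_zpow (a := y) (b := g), ← hj, ← conj_zpow (a := x) (b := g), ← hi, ← zpow_mul,
            ← zpow_mul, ← conj_zpow, ← conj_zpow, ← hi, ← hj, ← zpow_mul, ← zpow_mul]
          congr 1; ring
        have h2 := h1 ((y * x)⁻¹ * g * (y * x)) (by
          have := hOn.conj_mem g hg (y * x)⁻¹
          rwa [inv_inv] at this)
        rw [show y * x * ((y * x)⁻¹ * g * (y * x)) * (y * x)⁻¹ = g by group] at h2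
        calc ⁅x, y⁆ * g = x * y * ((y * x)⁻¹ * g * (y * x)) * (x * y)⁻¹ * (x * y * (y * x)⁻¹) := by
              rw [commutatorElement_def]; group
          _ = g * ⁅x, y⁆ := by rw [h2, commutatorElement_def]; group
      have hzc : ∀ a : A, a * z = z * a := by
        intro a
        obtain ⟨k, hk⟩ := hgg z hzO
        have : a ∈ Subgroup.centralizer ({g} : Set A) := hcom (hperf ▸ Subgroup.mem_top a)
        rw [← hk]
        exact (Commute.zpow_right (Subgroup.mem_centralizer_singleton_iff.1 this) k).eq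
      have hPc : IsMulCommutative (P : Subgroup A) := ⟨⟨fun a b => IsCyclic.commGroup.mul_comm a b⟩⟩
      have h1 : z ∈ ⁅(P : Subgroup A), Subgroup.normalizer ((P : Subgroup A) : Set A)⁆ := by
        have e := (CfsgLib.Transfer.inf_commutator_eq_focal P).trans (CfsgLib.Transfer.abelian_focal_eq P hPc)
        exact e.le ⟨hzP, by rw [hperf]; exact Subgroup.mem_top z⟩
      have h2 : z ∈ (P : Subgroup A) ⊓ Subgroup.centralizer (Subgroup.normalizer ((P : Subgroup A) : Set A) : Set A) :=
        ⟨hzP, Subgroup.mem_centralizer_iff.2 fun a _ => hzc a⟩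
      have h3 : z = 1 := Subgroup.mem_bot.1 ((CfsgLib.Transfer.abelian_decomp P hPc).1.le ⟨h2, h1⟩)
      rw [h3, orderOf_one] at hzo
      exact hl.ne_one hzo.symm
  rcases rank_one_data P.isPGroup' hcyc with ⟨z, w, hzc, hoz, hwp, hwz, hcomm⟩ | ⟨rfl, a, x, k, e, hk, hak, he, hxa, hxx, hgen⟩
  · obtain ⟨W, c, g₀, hg₀, hind, -, hne, hmem⟩ := exists_decomposition q P.isPGroup' ρP hρPinj
      (fun W hW => hPirr W fun x hx w hw => hW ⟨x, hx⟩ w hw) z w hzc hoz hwp hwz hcomm
    exact no_blocks ρ hperf (P : Subgroup A) horb W hind hne (fun x hx => ⟨c ⟨x, hx⟩, hmem ⟨x, hx⟩⟩)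
      (g₀ : A) (fun i u hu => hg₀ ▸ hmem g₀ i u hu)
  · haveI : Module.Finite (ZMod q) V := Module.Finite.of_finite
    have hPmul : ∀ (s t : (P : Subgroup A)) (v : V), ρP (s * t) v = ρP s (ρP t v) := fun s t v => by
      rw [map_mul]; rfl
    obtain ⟨U, hU⟩ := (Set.toFinite {U : Submodule (ZMod q) V | U ≠ ⊥ ∧ ∀ u ∈ U, ρP a u ∈ U}).exists_minimal
      ⟨⊤, top_ne_bot, fun u _ => Submodule.mem_top⟩
    obtain ⟨hU1, hUa⟩ := hU.prop
    have hUz : ∀ s ∈ Subgroup.zpowers a, ∀ u ∈ U, ρP s u ∈ U := by
      intro s hs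
      obtain ⟨i, rfl⟩ := (isOfFinOrder_of_finite _).mem_powers_iff_mem_zpowers.2 hs
      induction i with
      | zero => intro u hu; simpa using hu
      | succ i ih =>
        intro u hu
        show ρP (a ^ (i + 1)) u ∈ U
        rw [pow_succ, hPmul]
        exact ih (Subgroup.npow_mem_zpowers a i) _ (hUa u hu)
    have hee : x * a ^ e * x⁻¹ = a := by
      obtain ⟨i, hi⟩ := Subgroup.mem_zpowers_iff.1 hxx
      calc x * a ^ e * x⁻¹ = x * (x * a * x⁻¹) * x⁻¹ := by rw [hxa]
        _ = (x * x) * a * (x * x)⁻¹ := by group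
        _ = a := by rw [← hi]; group
    set U' := U.map (ρP x : V →ₗ[ZMod q] V) with hU'
    have hU'a : ∀ u ∈ U', ρP a u ∈ U' := by
      rintro _ ⟨u, hu, rfl⟩
      refine ⟨ρP (a ^ e) u, hUz _ (Subgroup.npow_mem_zpowers a e) u hu, ?_⟩
      show ρP x (ρP (a ^ e) u) = ρP a (ρP x u)
      rw [← hPmul, ← hPmul, ← mul_inv_eq_iff_eq_mul.1 hee]
    have hxU' : ∀ u ∈ U', ρP x u ∈ U := by
      rintro _ ⟨u, hu, rfl⟩
      show ρP x (ρP x u) ∈ U
      rw [← hPmul]; exact hUz _ hxx u hu
    have hcases : ∀ (g : (P : Subgroup A)), (∀ u ∈ U, ρP g u ∈ U) ∧ (∀ u ∈ U', ρP g u ∈ U') ∨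
        (∀ u ∈ U, ρP g u ∈ U') ∧ (∀ u ∈ U', ρP g u ∈ U) := by
      intro g
      have key : ∀ s ∈ Subgroup.zpowers a, ∀ u ∈ U', ρP s u ∈ U' := by
        intro s hs
        obtain ⟨i, rfl⟩ := (isOfFinOrder_of_finite _).mem_powers_iff_mem_zpowers.2 hs
        induction i with
        | zero => intro u hu; simpa using hu
        | succ i ih =>
          intro u hu
          show ρP (a ^ (i + 1)) u ∈ U'
          rw [pow_succ, hPmul]
          exact ih (Subgroup.npow_mem_zpowers a i) _ (hU'a u hu)
      rcases hgen g with h | h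
      · exact Or.inl ⟨hUz g h, key g h⟩
      · right
        have e1 : ∀ u, ρP g u = ρP x (ρP (x⁻¹ * g) u) := fun u => by rw [← hPmul, mul_inv_cancel_left]
        exact ⟨fun u hu => by rw [e1]; exact Submodule.mem_map_of_mem (hUz _ h u hu),
          fun u hu => by rw [e1]; exact hxU' _ (key _ h u hu)⟩
    by_cases hUU : U ≤ U'
    · have hU'eq : U' = U := (Submodule.eq_of_le_of_finrank_le hUU (Submodule.finrank_map_le _ _)).symm
      have hUtop : U = ⊤ := (hPirr U fun g hg u hu => by
        rcases hcases ⟨g, hg⟩ with ⟨h, -⟩ | ⟨h, -⟩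
        · exact h u hu
        · exact hU'eq ▸ h u hu).resolve_left hU1
      have hq2 : q ≠ 2 := fun h => hqA (h ▸ ((IsPGroup.card_eq_or_dvd P.isPGroup').resolve_left
        fun h => hP1 (Subgroup.card_eq_one.1 h)).trans (Subgroup.card_subgroup_dvd_card _))
      have hao : orderOf (ρP a) = 2 ^ k := by rw [orderOf_injective ρP hρPinj, hak]
      have hdim := finrank_le_two hq2 (ρP a) (ρP x) k e hk hao he
        (by rw [← map_inv, ← map_mul, ← map_mul, hxa, map_pow])
        (by
          obtain ⟨i, hi⟩ := Subgroup.mem_zpowers_iff.1 hxx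
          rw [← map_mul, ← hi, map_zpow]
          exact (Commute.refl _).zpow_left i)
        (fun W hW => by
          by_cases hW1 : W = ⊥
          · exact Or.inl hW1
          · exact Or.inr (top_le_iff.1 (hUtop ▸ hU.le_of_le ⟨hW1, hW⟩ (hUtop ▸ le_top))))
      -- vectors have trivial stabilisers
      obtain ⟨v, hv⟩ := exists_ne (0 : V)
      obtain ⟨i, hi⟩ := hidx v
      have hst : stab ρ v = ⊥ := by
        rw [eq_bot_iff]
        intro b hb
        replace hb : ρ b v = v := hb
        rw [Subgroup.mem_bot]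
        apply hρ
        rw [map_one]
        refine LinearEquiv.ext fun w => ?_
        show ρ b w = w
        by_cases hw : w ∈ Submodule.span (ZMod q) {v}
        · obtain ⟨c, rfl⟩ := Submodule.mem_span_singleton.1 hw
          rw [map_smul, hb]
        have hli : LinearIndependent (ZMod q) ![v, w] :=
          (LinearIndependent.pair_iff' hv).2 fun c hc => hw (Submodule.mem_span_singleton.2 ⟨c, hc⟩)
        have hfr : Module.finrank (ZMod q) V = 2 := by
          refine le_antisymm hdim ?_
          simpa using hli.fintype_card_le_finrank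
        let B := basisOfLinearIndependentOfCardEqFinrank hli (by simp [hfr])
        have hB : ∀ i, B i = ![v, w] i := fun i => by simp [B]
        set s := B.repr (ρ b w) 0
        set t := B.repr (ρ b w) 1
        have hbw : ρ b w = s • v + t • w := by
          conv_lhs => rw [← B.sum_repr (ρ b w)]
          rw [Fin.sum_univ_two, hB, hB]
          rfl
        have hdet : LinearEquiv.det (ρ b) = 1 :=
          hom_trivial_of_perfect hperf ((LinearEquiv.det).comp ρ) b
        have ht : t = 1 := by
          have h1 : LinearMap.det (ρ b : V →ₗ[ZMod q] V) = 1 := by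
            rw [← LinearEquiv.coe_det, hdet]; rfl
          rw [← LinearMap.det_toMatrix B, Matrix.det_fin_two] at h1
          have e00 : LinearMap.toMatrix B B (ρ b : V →ₗ[ZMod q] V) 0 0 = 1 := by
            rw [LinearMap.toMatrix_apply, hB]; show B.repr (ρ b v) 0 = 1
            rw [hb, show v = B 0 from (hB 0).symm, B.repr_self, Finsupp.single_eq_same]
          have e10 : LinearMap.toMatrix B B (ρ b : V →ₗ[ZMod q] V) 1 0 = 0 := by
            rw [LinearMap.toMatrix_apply, hB]; show B.repr (ρ b v) 1 = 0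
            rw [hb, show v = B 0 from (hB 0).symm, B.repr_self, Finsupp.single_eq_of_ne (by decide)]
          have e11 : LinearMap.toMatrix B B (ρ b : V →ₗ[ZMod q] V) 1 1 = t := by
            rw [LinearMap.toMatrix_apply, hB]; rfl
          rw [e00, e10, e11] at h1
          simpa using h1
        rw [ht, one_smul] at hbw
        have hn : ∀ n : ℕ, ρ (b ^ n) w = (n : ZMod q) • s • v + w := by
          intro n
          induction n with
          | zero => simp [hone]
          | succ n ih =>
            rw [pow_succ', hmul, ih, map_add, map_smul, map_smul, hb, hbw, Nat.cast_succ, add_smul, one_smul]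
            abel
        have h2 := hn (orderOf b)
        rw [pow_orderOf_eq_one, hone, right_eq_add] at h2
        have h3 : (orderOf b : ZMod q) ≠ 0 := fun h =>
          hqA (((ZMod.natCast_eq_zero_iff _ _).1 h).trans (orderOf_dvd_natCard b))
        rw [hbw, (smul_eq_zero.1 h2).resolve_left h3, zero_add]
      rw [hst, Subgroup.index_bot] at hi
      haveI := (IsPGroup.of_card hi).isNilpotent
      exact hns inferInstance
    · have hinf : U ⊓ U' = ⊥ := by
        by_contra h
        exact hUU ((hU.le_of_le ⟨h, fun u hu => ⟨hUa u hu.1, hU'a u hu.2⟩⟩ inf_le_left).trans inf_le_right)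
      let W : ZMod 2 → Submodule (ZMod q) V := fun i => if i = 0 then U else U'
      have h01 : ∀ i : ZMod 2, i = 0 ∨ i = 1 := zmod_two
      refine no_blocks ρ hperf (P : Subgroup A) horb W ?_ ?_ ?_ (x : A) ?_
      · rw [iSupIndep_def]
        intro i
        rcases h01 i with rfl | rfl
        · refine Disjoint.mono_right (iSup₂_le fun j hj => ?_) (disjoint_iff.2 hinf)
          rcases h01 j with rfl | rfl
          · exact absurd rfl hj
          · simp [W]
        · simp only [W, one_ne_zero, if_false]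
          refine Disjoint.mono_right (iSup₂_le fun j hj => ?_) (disjoint_iff.2 hinf).symm
          rcases h01 j with rfl | rfl
          · simp
          · exact absurd rfl hj
      · intro i
        rcases h01 i with rfl | rfl
        · simpa [W] using hU1
        · simpa [W, hU'] using hU1
      · intro g hg
        rcases hcases ⟨g, hg⟩ with ⟨h1, h2⟩ | ⟨h1, h2⟩
        · refine ⟨0, fun i u hu => ?_⟩
          rcases h01 i with rfl | rfl
          · exact h1 u hu
          · exact h2 u hu
        · refine ⟨1, fun i u hu => ?_⟩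
          rcases h01 i with rfl | rfl
          · exact h1 u hu
          · exact h2 u hu
      · intro i u hu
        rcases h01 i with rfl | rfl
        · exact Submodule.mem_map_of_mem (f := (ρP x : V →ₗ[ZMod q] V)) hu
        · exact hxU' u hu

end CfsgLib.OrbitSolvable
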