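import Mathlib
import Cfsg.Agent.OrbitSolvable.Irreducible

/-!
A group of order prime to `q` acting faithfully on an abelian `q`-group with orbits of `p`-power size is solvable.
-/

set_option autoImplicit false
set_option linter.style.haveILetI false
set_option linter.unusedSectionVars false

namespace CfsgLib.OrbitSolvable

universe u v

/-- The stabiliser of a point. -/
def zstab {A M : Type*} [Group A] [AddCommGroup M] (ρ : A →* (M ≃ₗ[ℤ] M)) (v : M) : Subgroup A where
  carrier := {a | ρ a v = v}
  one_mem' := by show ρ 1 v = v; rw [map_one]; rfl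
  mul_mem' := by
    intro a b ha hb
    show ρ (a * b) v = v
    rw [map_mul]; show ρ a (ρ b v) = v; rw [show ρ b v = v from hb]; exact ha
  inv_mem' := by
    intro a ha
    show ρ a⁻¹ v = v
    nth_rewrite 1 [← (show ρ a v = v from ha)]
    show (ρ a⁻¹ * ρ a) v = v
    rw [← map_mul, inv_mul_cancel, map_one]; rfl

theorem relIndex_dvd_of_normal {A : Type*} [Group A] [Finite A] (C N : Subgroup A) [N.Normal] :
    C.relIndex N ∣ C.index := by
  obtain ⟨c, hc⟩ := Subgroup.relIndex_dvd_index_of_normal N C
  refine ⟨c, ?_⟩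
  have h2 : C.relIndex N * N.index = N.relIndex C * C.index := by
    rw [← Subgroup.inf_relIndex_right C N, Subgroup.relIndex_mul_index inf_le_right,
      ← Subgroup.inf_relIndex_right N C, Subgroup.relIndex_mul_index inf_le_right, inf_comm]
  rw [hc, mul_left_comm] at h2
  exact (Nat.eq_of_mul_eq_mul_left (Nat.pos_of_ne_zero (Subgroup.index_ne_zero_of_finite (H := N.subgroupOf C))) h2).symm

/-- The same action, as linear maps over `ZMod q`. -/
def zmodRep {A M : Type*} [Group A] [AddCommGroup M] (q : ℕ) [Module (ZMod q) M] (ρ : A →* (M ≃ₗ[ℤ] M)) :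
    A →* (M ≃ₗ[ZMod q] M) :=
  MonoidHom.mk' (fun a => AddEquiv.toLinearEquiv (ρ a).toAddEquiv fun c x => ZMod.map_smul (ρ a).toAddEquiv c x)
    fun a b => LinearEquiv.ext fun w => by
      show ρ (a * b) w = ρ a (ρ b w)
      rw [map_mul]
      rfl

theorem zmodRep_apply {A M : Type*} [Group A] [AddCommGroup M] (q : ℕ) [Module (ZMod q) M] (ρ : A →* (M ≃ₗ[ℤ] M))
    (a : A) (w : M) : zmodRep q ρ a w = ρ a w := rfl

set_option maxHeartbeats 1000000 in
theorem solvable_aux {p q : ℕ} [hp : Fact p.Prime] [hq : Fact q.Prime] :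
    ∀ (n : ℕ) (A : Type u) (M : Type v) [Group A] [Finite A] [AddCommGroup M] [Finite M],
      Nat.card A + Nat.card M = n → (∃ k, Nat.card M = q ^ k) → ¬ q ∣ Nat.card A →
      ∀ ρ : A →* (M ≃ₗ[ℤ] M), Function.Injective ρ → (∀ v, ∃ i, (zstab ρ v).index = p ^ i) →
        Group.IsSolvable A := by
  intro n
  induction n using Nat.strong_induction_on with
  | _ n ih =>
    intro A M _ _ _ _ hn hM hqA ρ hρ hidx
    classical
    by_contra hns
    have hmul : ∀ (a b : A) (w : M), ρ (a * b) w = ρ a (ρ b w) := fun a b w => by rw [map_mul]; rfl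
    have hone : ∀ w : M, ρ 1 w = w := fun w => by rw [map_one]; rfl
    have hsub : ∀ N : Subgroup A, N.Normal → N ≠ ⊤ → Group.IsSolvable N := by
      intro N hN hNt
      haveI := hN
      refine ih _ ?_ N M rfl hM (fun h => hqA (h.trans (Subgroup.card_subgroup_dvd_card N)))
        (ρ.comp N.subtype) (hρ.comp N.subtype_injective) fun v => ?_
      · have : Nat.card N < Nat.card A := lt_of_le_of_ne (Subgroup.card_le_card_group _)
          fun e => hNt (Subgroup.eq_top_of_card_eq _ e)
        omega
      · obtain ⟨i, hi⟩ := hidx v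
        have e : zstab (ρ.comp N.subtype) v = (zstab ρ v).subgroupOf N := rfl
        rw [e]
        obtain ⟨j, -, hj⟩ := (Nat.dvd_prime_pow hp.out).1 (hi ▸ relIndex_dvd_of_normal (zstab ρ v) N)
        exact ⟨j, hj⟩
    -- the orders of elements are prime to `q`
    have hord : ∀ a : A, ∀ w : M, (orderOf a) • w = 0 → w = 0 := by
      intro a w hw
      obtain ⟨k, hk⟩ := hM
      have h1 : q ^ k • w = 0 := by rw [← hk]; exact card_nsmul_eq_zero'
      have hcop : Nat.Coprime (orderOf a) (q ^ k) :=
        (Nat.Coprime.pow_right k ((hq.out.coprime_iff_not_dvd.2 fun h => hqA (h.trans (orderOf_dvd_natCard a))).symm))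
      rw [← AddMonoid.addOrderOf_eq_one_iff]
      exact Nat.eq_one_of_dvd_coprimes hcop (addOrderOf_dvd_of_nsmul_eq_zero hw) (addOrderOf_dvd_of_nsmul_eq_zero h1)
    by_cases hred : ∃ W : Submodule ℤ M, (∀ a, ∀ w ∈ W, ρ a w ∈ W) ∧ W ≠ ⊥ ∧ W ≠ ⊤
    · obtain ⟨W, hW, hW1, hW2⟩ := hred
      obtain ⟨k, hk⟩ := hM
      have hWmap : ∀ a, W.map (ρ a : M →ₗ[ℤ] M) = W := fun a => by
        refine le_antisymm (by rintro _ ⟨w, hw, rfl⟩; exact hW a w hw) fun w hw => ⟨ρ a⁻¹ w, hW a⁻¹ w hw, ?_⟩
        show ρ a (ρ a⁻¹ w) = w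
        rw [← hmul, mul_inv_cancel, hone]
      let σ : A →* (W ≃ₗ[ℤ] W) :=
        { toFun := fun a => (ρ a).ofSubmodules W W (hWmap a)
          map_one' := LinearEquiv.ext fun w => Subtype.ext (by simp [hone])
          map_mul' := fun a b => LinearEquiv.ext fun w => Subtype.ext (by simp [hmul]) }
      let τ : A →* ((M ⧸ W) ≃ₗ[ℤ] (M ⧸ W)) :=
        { toFun := fun a => Submodule.Quotient.equiv W W (ρ a) (hWmap a)
          map_one' := LinearEquiv.ext fun w => by
            induction w using Submodule.Quotient.induction_on with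
            | H x => simp [Submodule.Quotient.equiv, hone]
          map_mul' := fun a b => LinearEquiv.ext fun w => by
            induction w using Submodule.Quotient.induction_on with
            | H x => simp [Submodule.Quotient.equiv, hmul] }
      have hτ : ∀ a (x : M), τ a (Submodule.Quotient.mk x) = Submodule.Quotient.mk (ρ a x) := fun a x => rfl
      have hσ : ∀ a (w : W), (σ a w : M) = ρ a w := fun a w => rfl
      clear_value σ τ
      haveI : Finite (M ⧸ W) := Finite.of_surjective _ (Submodule.Quotient.mk_surjective W)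
      have hcardM : Nat.card M = Nat.card W * Nat.card (M ⧸ W) :=
        (Submodule.card_eq_card_quotient_mul_card W)
      have hWc : 1 < Nat.card W := Finite.one_lt_card_iff_nontrivial.2 (Submodule.nontrivial_iff_ne_bot.2 hW1)
      have hQc : 1 < Nat.card (M ⧸ W) :=
        Finite.one_lt_card_iff_nontrivial.2 (Submodule.Quotient.nontrivial_iff.2 hW2)
      have hW' : Nat.card W < Nat.card M := by rw [hcardM]; exact lt_mul_right (by omega) hQc
      have hQ' : Nat.card (M ⧸ W) < Nat.card M := by rw [hcardM]; exact lt_mul_left (by omega) hWc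
      have hsσ : Group.IsSolvable (A ⧸ σ.ker) := by
        refine ih _ ?_ (A ⧸ σ.ker) W rfl ?_ (fun h => hqA (h.trans ?_)) (QuotientGroup.kerLift σ) (QuotientGroup.kerLift_injective σ) fun w => ?_
        · have := Nat.card_le_card_of_surjective _ (QuotientGroup.mk_surjective (s := σ.ker)); omega
        · obtain ⟨j, -, hj⟩ := (Nat.dvd_prime_pow hq.out).1 (hk ▸ hcardM ▸ dvd_mul_right _ _ : Nat.card W ∣ q ^ k)
          exact ⟨j, hj⟩
        · exact σ.ker.card_quotient_dvd_card
        · obtain ⟨i, hi⟩ := hidx w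
          have h1 : (zstab ρ w).map (QuotientGroup.mk' σ.ker) ≤ zstab (QuotientGroup.kerLift σ) w := by
            rintro _ ⟨a, ha, rfl⟩
            exact Subtype.ext ((hσ a w).trans ha)
          obtain ⟨j, -, hj⟩ := (Nat.dvd_prime_pow hp.out).1 (hi ▸ (Subgroup.index_dvd_of_le h1).trans
            (Subgroup.index_map_dvd _ (QuotientGroup.mk'_surjective σ.ker)))
          exact ⟨j, hj⟩
      have hsτ : Group.IsSolvable (A ⧸ τ.ker) := by
        refine ih _ ?_ (A ⧸ τ.ker) (M ⧸ W) rfl ?_ (fun h => hqA (h.trans ?_)) (QuotientGroup.kerLift τ) (QuotientGroup.kerLift_injective τ) fun w => ?_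
        · have := Nat.card_le_card_of_surjective _ (QuotientGroup.mk_surjective (s := τ.ker)); omega
        · obtain ⟨j, -, hj⟩ := (Nat.dvd_prime_pow hq.out).1 (hk ▸ hcardM ▸ dvd_mul_left _ _ : Nat.card (M ⧸ W) ∣ q ^ k)
          exact ⟨j, hj⟩
        · exact τ.ker.card_quotient_dvd_card
        · obtain ⟨x, rfl⟩ := Submodule.Quotient.mk_surjective W w
          obtain ⟨i, hi⟩ := hidx x
          have h1 : (zstab ρ x).map (QuotientGroup.mk' τ.ker) ≤ zstab (QuotientGroup.kerLift τ) (Submodule.Quotient.mk x) := by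
            rintro _ ⟨a, ha, rfl⟩
            exact (hτ a x).trans (congrArg _ ha)
          obtain ⟨j, -, hj⟩ := (Nat.dvd_prime_pow hp.out).1 (hi ▸ (Subgroup.index_dvd_of_le h1).trans
            (Subgroup.index_map_dvd _ (QuotientGroup.mk'_surjective τ.ker)))
          exact ⟨j, hj⟩
      have hinj : Function.Injective ((QuotientGroup.mk' σ.ker).prod (QuotientGroup.mk' τ.ker)) := by
        rw [injective_iff_map_eq_one]
        intro a ha
        have h1 : σ a = 1 := (QuotientGroup.eq_one_iff a).1 (congrArg Prod.fst ha)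
        have h2 : τ a = 1 := (QuotientGroup.eq_one_iff a).1 (congrArg Prod.snd ha)
        apply hρ
        rw [map_one]
        refine LinearEquiv.ext fun x => ?_
        show ρ a x = x
        have hd : ρ a x - x ∈ W := by
          rw [← Submodule.Quotient.eq]
          rw [← hτ, h2]; rfl
        have hfix : ρ a (ρ a x - x) = ρ a x - x :=
          ((hσ a ⟨_, hd⟩).symm.trans (congrArg Subtype.val (LinearEquiv.congr_fun h1 ⟨_, hd⟩)))
        have hpow : ∀ j : ℕ, ρ (a ^ j) x = x + j • (ρ a x - x) := by
          intro j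
          induction j with
          | zero => simp [hone]
          | succ j ih => rw [pow_succ', hmul, ih, map_add, map_nsmul, hfix, succ_nsmul]; abel
        have h3 := hpow (orderOf a)
        rw [pow_orderOf_eq_one, hone, left_eq_add] at h3
        exact sub_eq_zero.1 (hord a _ h3)
      apply hns
      have hker : Group.IsSolvable σ.ker := by
        refine @Group.isSolvable_of_isSolvable_injective σ.ker (A ⧸ τ.ker) _ _
          ((QuotientGroup.mk' τ.ker).comp σ.ker.subtype) ?_ hsτ
        intro a b hab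
        apply Subtype.ext
        apply hinj
        refine Prod.ext ?_ hab
        exact ((QuotientGroup.eq_one_iff (a : A)).2 a.2).trans ((QuotientGroup.eq_one_iff (b : A)).2 b.2).symm
      exact @Group.isSolvable_of_ker_le_range A _ σ.ker (A ⧸ σ.ker) _ _ σ.ker.subtype (QuotientGroup.mk' σ.ker)
        (by rw [QuotientGroup.ker_mk', Subgroup.range_subtype]) hker hsσ
    · push Not at hred
      have hexp : ∀ x : M, q • x = 0 := by
        intro x
        by_contra hx
        obtain ⟨k, hk⟩ := hM
        set W : Submodule ℤ M := LinearMap.range ((q : ℤ) • (LinearMap.id : M →ₗ[ℤ] M)) with hW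
        have hWinv : ∀ a, ∀ w ∈ W, ρ a w ∈ W := by
          rintro a _ ⟨y, rfl⟩
          exact ⟨ρ a y, by simp⟩
        have hne : W ≠ ⊥ := fun h => hx ((Submodule.mem_bot ℤ).1 (h ▸ (⟨x, by simp⟩ : q • x ∈ W)))
        have htop := hred W hWinv hne
        have hsurj : Function.Surjective fun y : M => q • y := fun w => by
          obtain ⟨y, hy⟩ : w ∈ W := htop ▸ Submodule.mem_top
          exact ⟨y, by simpa using hy⟩
        obtain ⟨j, -, hj⟩ := (Nat.dvd_prime_pow hq.out).1 (hk ▸ addOrderOf_dvd_natCard x)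
        have hq1 : q ∣ Nat.card M := by
          rw [hk]
          refine dvd_pow_self q ?_
          rintro rfl
          rw [pow_zero] at hk
          haveI := (Nat.card_eq_one_iff_unique.1 hk).1
          exact hx (Subsingleton.elim _ _)
        obtain ⟨y, hy⟩ := exists_prime_addOrderOf_dvd_card' q hq1
        have h2 : y = 0 := (Finite.injective_iff_surjective.2 hsurj) (show q • y = q • (0 : M) by
          rw [nsmul_zero, ← hy, addOrderOf_nsmul_eq_zero])
        rw [h2, addOrderOf_zero] at hy
        exact hq.out.ne_one hy.symm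
      let inst : Module (ZMod q) M := AddCommGroup.zmodModule (n := q) hexp
      let ρ' : A →* (M ≃ₗ[ZMod q] M) := zmodRep q ρ
      refine no_perfect (p := p) ρ' (fun a b h => hρ (LinearEquiv.ext fun w => LinearEquiv.congr_fun h w)) hqA
        (fun v => hidx v) hns hsub fun W hW => ?_
      rcases eq_or_ne W ⊥ with hW1 | hW1
      · exact Or.inl hW1
      · right
        have h1 := hred W.toAddSubgroup.toIntSubmodule (fun a w hw => hW a w hw)
          (fun h => hW1 ((Submodule.eq_bot_iff W).2 fun w hw => by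
            have h3 : w ∈ W.toAddSubgroup.toIntSubmodule := hw
            rw [h, Submodule.mem_bot] at h3
            exact h3))
        refine (Submodule.eq_top_iff').2 fun w => ?_
        exact (SetLike.ext_iff.1 h1 w).2 Submodule.mem_top

theorem solvable {A M : Type*} [Group A] [Finite A] [AddCommGroup M] [Finite M] {p q : ℕ} [Fact p.Prime]
    [Fact q.Prime] (hM : ∃ k, Nat.card M = q ^ k) (hqA : ¬ q ∣ Nat.card A) (ρ : A →* (M ≃ₗ[ℤ] M))
    (hρ : Function.Injective ρ) (hidx : ∀ v, ∃ i, (zstab ρ v).index = p ^ i) : Group.IsSolvable A :=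
  solvable_aux _ A M rfl hM hqA ρ hρ hidx

end CfsgLib.OrbitSolvable
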